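import Cfsg.Agent.Lib.ParityCorr.Fourier

/-!
# Averaging traces against a parity operator

If `G = K H` with `K ⊓ H = L` and `K ⧸ L` abelian of odd order, operators commuting with `H` that
invert `K` modulo the span of `L` turn orthogonality on `G` into orthogonality on `H`.
-/

namespace CfsgLib.ParityCorr

open Cfsg CfsgLib.CharTheory

set_option linter.unusedVariables false
set_option linter.unusedSectionVars false
set_option linter.style.haveILetI false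

universe u v w

variable {G : Type u} [Group G] [Fintype G]
variable {V : Type v} [AddCommGroup V] [Module ℂ V] [FiniteDimensional ℂ V]
variable {V' : Type w} [AddCommGroup V'] [Module ℂ V'] [FiniteDimensional ℂ V']
variable {K H L : Subgroup G}

/-- A section inverted by an element of odd order is trivial. -/
theorem mem_of_inverted [L.Normal] (hodd : Odd (Nat.card G)) {h y : G}
    (hy : h⁻¹ * y * h * y ∈ L) : y ∈ L := by
  obtain ⟨m, hm⟩ := hodd
  rw [← QuotientGroup.eq_one_iff] at hy ⊢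
  simp only [QuotientGroup.mk_mul, QuotientGroup.mk_inv] at hy
  set a : G ⧸ L := ↑h
  set b : G ⧸ L := ↑y
  have h1 : a⁻¹ * b * a = b⁻¹ := eq_inv_of_mul_eq_one_left hy
  have h2 : Commute (a ^ 2) b := by
    have h3 : a⁻¹ * (a⁻¹ * b * a) * a = b := by
      rw [h1]
      calc a⁻¹ * b⁻¹ * a = (a⁻¹ * b * a)⁻¹ := by group
        _ = b := by rw [h1, inv_inv]
    calc a ^ 2 * b = a ^ 2 * (a⁻¹ * (a⁻¹ * b * a) * a) := by rw [h3]
      _ = b * a ^ 2 := by rw [pow_two]; group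
  have hpow : ∀ c : G ⧸ L, c ^ (2 * m + 1) = 1 := fun c => by
    obtain ⟨g, rfl⟩ := QuotientGroup.mk_surjective c
    rw [← QuotientGroup.mk_pow, ← hm, pow_card_eq_one', QuotientGroup.mk_one]
  have ha : (a ^ 2) ^ (m + 1) = a := by
    rw [← pow_mul, show 2 * (m + 1) = (2 * m + 1) + 1 by ring, pow_succ, hpow, one_mul]
  have h4 : Commute a b := ha ▸ h2.pow_left (m + 1)
  have h5 : a⁻¹ * b * a = b := by rw [mul_assoc, ← h4.eq, inv_mul_cancel_left]
  have h6 : b ^ 2 = 1 := by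
    rw [pow_two]
    nth_rw 1 [← h5]
    rw [h1, inv_mul_cancel]
  have h7 := hpow b
  rwa [pow_succ, pow_mul, h6, one_pow, one_mul] at h7

theorem sum_product_eq [Fintype K] [Fintype H] (hLK : L ≤ K) (hLH : L ≤ H)
    (hKH : ∀ x ∈ K, x ∈ H → x ∈ L) (hG : ∀ g : G, ∃ k ∈ K, ∃ h ∈ H, g = k * h) (F : G → ℂ) :
    ∑ h : H, ∑ k : K, F ((k : G) * h) = (Nat.card L : ℂ) * ∑ g : G, F g := by
  classical
  rw [← Fintype.sum_prod_type', ← Finset.sum_fiberwise Finset.univ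
    (fun x : H × K => (x.2 : G) * x.1), Finset.mul_sum]
  refine Finset.sum_congr rfl fun g _ => ?_
  rw [Finset.sum_congr rfl fun x hx => show F ((x.2 : G) * x.1) = F g by
    rw [(Finset.mem_filter.1 hx).2], Finset.sum_const, nsmul_eq_mul, ← Fintype.card_subtype,
    ← Nat.card_eq_fintype_card]
  congr 2
  obtain ⟨k₀, hk₀, h₀, hh₀, rfl⟩ := hG g
  exact Nat.card_congr
    { toFun := fun x => ⟨k₀⁻¹ * (x.1.2 : G), hKH _ (K.mul_mem (K.inv_mem hk₀) x.1.2.2) (by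
        rw [show k₀⁻¹ * (x.1.2 : G) = h₀ * (x.1.1 : G)⁻¹ by
          rw [inv_mul_eq_iff_eq_mul, ← mul_assoc, eq_mul_inv_iff_mul_eq]; exact x.2]
        exact H.mul_mem hh₀ (H.inv_mem x.1.1.2))⟩
      invFun := fun l => ⟨(⟨(l : G)⁻¹ * h₀, H.mul_mem (H.inv_mem (hLH l.2)) hh₀⟩,
          ⟨k₀ * l, K.mul_mem hk₀ (hLK l.2)⟩), by simp [mul_assoc]⟩
      left_inv := fun x => by
        have hx : (x.1.2 : G) * (x.1.1 : G) = k₀ * h₀ := x.2
        refine Subtype.ext (Prod.ext (Subtype.ext ?_) (Subtype.ext ?_))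
        · show (k₀⁻¹ * (x.1.2 : G))⁻¹ * h₀ = x.1.1
          rw [mul_inv_rev, inv_inv, mul_assoc, inv_mul_eq_iff_eq_mul]
          exact hx.symm
        · simp
      right_inv := fun l => by simp }

variable (ρ : Representation ℂ G V) (ρ' : Representation ℂ G V')
variable {T : Module.End ℂ V} {T' : Module.End ℂ V'}

/-- The trace averaged over a coset of `L`. -/
noncomputable def cosetTrace [Fintype L] (T : Module.End ℂ V) (T' : Module.End ℂ V') (h k : G) :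
    ℂ :=
  ∑ l : L, LinearMap.trace ℂ V (ρ h * T * ρ (k * l)) *
    LinearMap.trace ℂ V' (ρ' (k * l)⁻¹ * T' * ρ' h⁻¹)

omit [Fintype G] in
theorem cosetTrace_mul_right [Fintype L] (h k : G) (m : L) :
    cosetTrace (L := L) ρ ρ' T T' h (k * m) = cosetTrace (L := L) ρ ρ' T T' h k :=
  Fintype.sum_equiv (Equiv.mulLeft m) _ _ fun l => by
    simp only [Equiv.coe_mulLeft, Subgroup.coe_mul, mul_assoc]

omit [Fintype G] in
theorem cosetTrace_conj [Fintype L] [hLn : L.Normal] (hT : T * T = 1) (hT' : T' * T' = 1)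
    {h y k : G}
    (hTK : ∃ c : L → ℂ, T * ρ (h⁻¹ * y * h) * T * ρ (h⁻¹ * y * h) = ∑ l, c l • ρ (l : G) ∧
      T' * ρ' (h⁻¹ * y * h) * T' * ρ' (h⁻¹ * y * h) = ∑ l, c l • ρ' (l : G)) :
    cosetTrace (L := L) ρ ρ' T T' h ((h⁻¹ * y * h)⁻¹ * k * y⁻¹) =
      cosetTrace (L := L) ρ ρ' T T' h k := by
  classical
  obtain ⟨c, hc, hc'⟩ := hTK
  set w := h⁻¹ * y * h with hw
  set z := w⁻¹ * k * y⁻¹ with hz
  have hyh : ρ y * ρ h = ρ h * ρ w := by
    rw [← map_mul, ← map_mul, hw]; congr 1; group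
  have hhy : ρ' h⁻¹ * ρ' y⁻¹ = ρ' w⁻¹ * ρ' h⁻¹ := by
    rw [← map_mul, ← map_mul, hw]; congr 1; group
  -- first factor
  have hA : ρ w * T = T * (∑ m : L, c m • ρ (m : G)) * ρ w⁻¹ := by
    rw [← hc]
    simp only [← mul_assoc, hT, one_mul]
    rw [mul_assoc (ρ w * T), ← map_mul, mul_inv_cancel, map_one, mul_one]
  -- second factor
  have hB : (∑ m : L, c m • ρ' (m : G)) * (ρ' w⁻¹ * T' * ρ' w⁻¹ * T') = 1 := by
    rw [← hc']
    simp only [← mul_assoc]
    rw [mul_assoc (T' * ρ' w * T'), ← map_mul, mul_inv_cancel, map_one, mul_one,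
      mul_assoc (T' * ρ' w) T', hT', mul_one, mul_assoc T', ← map_mul, mul_inv_cancel, map_one,
      mul_one, hT']
  set B : Module.End ℂ V' := ρ' w⁻¹ * T' * ρ' w⁻¹ * T' with hBdef
  have hBT : T' * ρ' w⁻¹ = ρ' w * B * T' := by
    rw [hBdef]
    simp only [← mul_assoc, ← map_mul, mul_inv_cancel, map_one, one_mul]
    rw [mul_assoc (T' * ρ' w⁻¹), hT', mul_one]
  have hsecond : ∀ l : L, LinearMap.trace ℂ V' (ρ' (k * l)⁻¹ * T' * ρ' h⁻¹) =
      LinearMap.trace ℂ V' (ρ' (y * (l : G)⁻¹ * y⁻¹) * ρ' z⁻¹ * B * T' * ρ' h⁻¹) := by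
    intro l
    rw [show ρ' (y * (l : G)⁻¹ * y⁻¹) * ρ' z⁻¹ * B * T' * ρ' h⁻¹ =
      ρ' y * (ρ' (k * l)⁻¹ * T' * ρ' h⁻¹ * ρ' y⁻¹) by
        rw [mul_assoc (ρ' (k * (l : G))⁻¹ * T'), hhy, ← mul_assoc (ρ' (k * (l : G))⁻¹ * T'),
          mul_assoc (ρ' (k * (l : G))⁻¹) T', hBT]
        simp only [← mul_assoc, ← map_mul]
        congr 4
        rw [hz]
        group]
    rw [LinearMap.trace_mul_comm ℂ (ρ' y), mul_assoc _ (ρ' y⁻¹), ← map_mul, inv_mul_cancel,
      map_one, mul_one]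
  have hfirst : ∀ l : L, LinearMap.trace ℂ V (ρ h * T * ρ (k * l)) =
      ∑ m : L, c m * LinearMap.trace ℂ V (ρ h * T * ρ ((m : G) * z * (y * l * y⁻¹))) := by
    intro l
    have e : ρ h * T * (∑ m : L, c m • ρ (m : G)) * ρ (z * (y * l * y⁻¹)) =
        ρ y * (ρ h * T * ρ (k * l) * ρ y⁻¹) := by
      simp only [← mul_assoc]
      rw [hyh, mul_assoc (ρ h) (ρ w) T, hA]
      simp only [← mul_assoc]
      simp only [mul_assoc, ← map_mul]
      congr 4
      rw [hz]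
      group
    rw [show ρ h * T * ρ (k * (l : G)) = ρ h * T * ρ (k * (l : G)) * ρ y⁻¹ * ρ y by
        rw [mul_assoc _ (ρ y⁻¹), ← map_mul, inv_mul_cancel, map_one, mul_one],
      LinearMap.trace_mul_comm, ← e, Finset.mul_sum, Finset.sum_mul, map_sum]
    refine Finset.sum_congr rfl fun m _ => ?_
    simp only [mul_smul_comm, smul_mul_assoc, map_smul, smul_eq_mul, mul_assoc, ← map_mul]
  unfold cosetTrace
  symm
  simp only [hfirst, hsecond, Finset.sum_mul]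
  rw [Finset.sum_comm]
  -- move the combination to the second factor
  have hmove : ∀ m : L, ∑ l : L, c m *
      LinearMap.trace ℂ V (ρ h * T * ρ ((m : G) * z * (y * l * y⁻¹))) *
      LinearMap.trace ℂ V' (ρ' (y * (l : G)⁻¹ * y⁻¹) * ρ' z⁻¹ * B * T' * ρ' h⁻¹) =
      ∑ l : L, c m * (LinearMap.trace ℂ V (ρ h * T * ρ (z * l)) *
        LinearMap.trace ℂ V' (ρ' (z * l)⁻¹ * ρ' (m : G) * B * T' * ρ' h⁻¹)) := by
    intro m
    refine Fintype.sum_equiv
      (Equiv.ofBijective (fun l : L => (⟨z⁻¹ * m * z * (y * l * y⁻¹), L.mul_mem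
          (by simpa using hLn.conj_mem _ m.2 z⁻¹) (hLn.conj_mem _ l.2 y)⟩ : L)) ?_) _ _ fun l => ?_
    · exact Finite.injective_iff_bijective.1 fun a b hab =>
        Subtype.ext (mul_left_cancel (mul_right_cancel
          (mul_left_cancel (congrArg Subtype.val hab))))
    · rw [mul_assoc]
      simp only [Equiv.ofBijective_apply]
      rw [show z * (z⁻¹ * (m : G) * z * (y * l * y⁻¹)) = (m : G) * z * (y * l * y⁻¹) by group,
        ← map_mul ρ' (y * (l : G)⁻¹ * y⁻¹) z⁻¹, ← map_mul ρ' _ (m : G),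
        show ((m : G) * z * (y * l * y⁻¹))⁻¹ * (m : G) = y * (l : G)⁻¹ * y⁻¹ * z⁻¹ by group]
  rw [Finset.sum_congr rfl fun m _ => hmove m, Finset.sum_comm]
  refine Finset.sum_congr rfl fun l _ => ?_
  rw [Finset.sum_congr rfl fun m _ => mul_left_comm (c m) _ _, ← Finset.mul_sum]
  congr 1
  calc ∑ m : L, c m * LinearMap.trace ℂ V' (ρ' (z * l)⁻¹ * ρ' (m : G) * B * T' * ρ' h⁻¹)
      = LinearMap.trace ℂ V'
          (ρ' (z * l)⁻¹ * ((∑ m : L, c m • ρ' (m : G)) * B) * T' * ρ' h⁻¹) := by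
        simp only [Finset.sum_mul, Finset.mul_sum, smul_mul_assoc, mul_smul_comm, map_sum,
          map_smul, smul_eq_mul, mul_assoc]
    _ = _ := by rw [hB, mul_one]

/-- The main identity. -/
theorem sum_parity [L.Normal] [Fintype K] [Fintype H] [Fintype L] (hodd : Odd (Nat.card G))
    (hLK : L ≤ K) (hLH : L ≤ H) (hKH : ∀ x ∈ K, x ∈ H → x ∈ L)
    (hG : ∀ g : G, ∃ k ∈ K, ∃ h ∈ H, g = k * h) (hKn : K.Normal)
    (hab : ∀ x ∈ K, ∀ y ∈ K, x * y * x⁻¹ * y⁻¹ ∈ L)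
    (hT : T * T = 1) (hT' : T' * T' = 1)
    (hTH : ∀ h ∈ H, ρ h * T = T * ρ h) (hTH' : ∀ h ∈ H, ρ' h * T' = T' * ρ' h)
    (hTK : ∀ w ∈ K, ∃ c : L → ℂ, T * ρ w * T * ρ w = ∑ l, c l • ρ (l : G) ∧
      T' * ρ' w * T' * ρ' w = ∑ l, c l • ρ' (l : G)) :
    (Nat.card K : ℂ) * ∑ h : H, LinearMap.trace ℂ V (ρ (h : G) * T) *
        LinearMap.trace ℂ V' (T' * ρ' (h : G)⁻¹) =
      (Nat.card L : ℂ) * ∑ g : G, LinearMap.trace ℂ V (T * ρ g) *
        LinearMap.trace ℂ V' (ρ' g⁻¹ * T') := by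
  classical
  have hLc : (Nat.card L : ℂ) ≠ 0 := Nat.cast_ne_zero.2 Nat.card_pos.ne'
  -- the averaged trace is constant on `K`
  have hconst : ∀ h ∈ H, ∀ k ∈ K,
      cosetTrace (L := L) ρ ρ' T T' h k = cosetTrace (L := L) ρ ρ' T T' h 1 := by
    intro h hh k hk
    have hwK : ∀ y ∈ K, h⁻¹ * y * h ∈ K := fun y hy => by
      simpa using hKn.conj_mem y hy h⁻¹
    have hcomm : ∀ a ∈ K, ∀ b ∈ K, (a : G ⧸ L) * b = (b : G ⧸ L) * a := fun a ha b hb => by
      have := (QuotientGroup.eq_one_iff _).2 (hab a ha b hb)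
      simp only [QuotientGroup.mk_mul, QuotientGroup.mk_inv, mul_inv_eq_one,
        mul_inv_eq_iff_eq_mul] at this
      simpa using this
    let Z : K → G := fun y => (h⁻¹ * (y : G) * h)⁻¹ * (y : G)⁻¹
    have hZK : ∀ y : K, Z y ∈ K := fun y =>
      K.mul_mem (K.inv_mem (hwK y y.2)) (K.inv_mem y.2)
    let gm : K ⧸ L.subgroupOf K → K ⧸ L.subgroupOf K := fun q =>
      QuotientGroup.mk (⟨Z q.out, hZK _⟩ : K)
    have hinj : Function.Injective gm := by
      intro q q' hqq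
      rw [← Quotient.out_eq q, ← Quotient.out_eq q']
      refine QuotientGroup.eq.2 (Subgroup.mem_subgroupOf.2 (mem_of_inverted (h := h) hodd ?_))
      have h1 := Subgroup.mem_subgroupOf.1 (QuotientGroup.eq.1 hqq)
      generalize q.out = a at h1
      generalize q'.out = b at h1
      simp only [Subgroup.coe_mul, Subgroup.coe_inv, Z] at h1 ⊢
      rw [← QuotientGroup.eq_one_iff] at h1 ⊢
      simp only [QuotientGroup.mk_mul, QuotientGroup.mk_inv, mul_inv_rev, inv_inv] at h1 ⊢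
      have hc1 := hcomm _ (hwK _ b.2) _ a.2
      have hc2 := hcomm _ (hwK _ b.2) _ b.2
      have hc3 := hcomm _ a.2 _ b.2
      simp only [QuotientGroup.mk_mul, QuotientGroup.mk_inv] at hc1 hc2
      generalize (↑(a : G) : G ⧸ L) = A at h1 hc1 hc3 ⊢
      generalize (↑(b : G) : G ⧸ L) = B at h1 hc1 hc2 hc3 ⊢
      generalize (↑h : G ⧸ L) = t at h1 hc1 hc2 ⊢
      have c1 : Commute (t⁻¹ * B * t) A := hc1
      have c3 : Commute A B := hc3
      have e1 : (A * (t⁻¹ * A * t)) * ((t⁻¹ * B * t)⁻¹ * B⁻¹) = 1 := by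
        rw [← h1]; group
      have e2 : B * (t⁻¹ * B * t) = A * (t⁻¹ * A * t) := by
        rw [← mul_inv_rev] at e1
        exact (mul_inv_eq_one.1 e1).symm
      calc t⁻¹ * (A⁻¹ * B) * t * (A⁻¹ * B)
          = (t⁻¹ * A * t)⁻¹ * ((t⁻¹ * B * t) * A⁻¹) * B := by group
        _ = (t⁻¹ * A * t)⁻¹ * (A⁻¹ * (t⁻¹ * B * t)) * B := by rw [c1.inv_right.eq]
        _ = (A * (t⁻¹ * A * t))⁻¹ * ((t⁻¹ * B * t) * B) := by group
        _ = 1 := by rw [show t⁻¹ * B * t * B = B * (t⁻¹ * B * t) from hc2, e2, inv_mul_cancel]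
    obtain ⟨q, hq⟩ := (Finite.injective_iff_surjective.1 hinj) (QuotientGroup.mk ⟨k, hk⟩)
    have hm : (Z q.out)⁻¹ * k ∈ L := Subgroup.mem_subgroupOf.1 (QuotientGroup.eq.1 hq)
    have h2 := cosetTrace_conj ρ ρ' (L := L) (h := h) (y := ((q.out : K) : G)) (k := 1) hT hT'
      (hTK _ (hwK _ q.out.2))
    rw [mul_one] at h2
    rw [← h2, show k = Z q.out * ((Z q.out)⁻¹ * k) by group]
    exact cosetTrace_mul_right ρ ρ' h (Z q.out) ⟨_, hm⟩
  have h1 : (Nat.card L : ℂ) * ∑ h : H, LinearMap.trace ℂ V (ρ (h : G) * T) *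
      LinearMap.trace ℂ V' (T' * ρ' (h : G)⁻¹) =
      ∑ h : H, cosetTrace (L := L) ρ ρ' T T' (h : G) 1 := by
    unfold cosetTrace
    rw [Finset.sum_comm, Nat.card_eq_fintype_card, ← Finset.card_univ, ← nsmul_eq_mul,
      ← Finset.sum_const]
    refine Finset.sum_congr rfl fun l _ =>
      (Fintype.sum_equiv (Equiv.mulRight (⟨(l : G), hLH l.2⟩ : H)) _ _ fun h => ?_).symm
    simp only [Equiv.coe_mulRight, Subgroup.coe_mul, one_mul, mul_inv_rev, map_mul]
    rw [mul_assoc (ρ (h : G)) T, ← hTH _ (hLH l.2), hTH' _ (H.inv_mem (hLH l.2))]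
    simp only [mul_assoc]
  have h2 : (Nat.card K : ℂ) * ∑ h : H, cosetTrace (L := L) ρ ρ' T T' (h : G) 1 =
      ∑ h : H, ∑ k : K, cosetTrace (L := L) ρ ρ' T T' (h : G) (k : G) := by
    rw [Finset.mul_sum]
    refine Finset.sum_congr rfl fun h _ => ?_
    rw [Finset.sum_congr rfl fun k _ => hconst _ h.2 _ k.2, Finset.sum_const, nsmul_eq_mul,
      Finset.card_univ, Nat.card_eq_fintype_card]
  have h3 : ∑ h : H, ∑ k : K, cosetTrace (L := L) ρ ρ' T T' (h : G) (k : G) =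
      (Nat.card L : ℂ) * ((Nat.card L : ℂ) *
        ∑ g : G, LinearMap.trace ℂ V (T * ρ g) * LinearMap.trace ℂ V' (ρ' g⁻¹ * T')) := by
    rw [← sum_product_eq hLK hLH hKH hG, Finset.mul_sum]
    refine Finset.sum_congr rfl fun h _ => ?_
    unfold cosetTrace
    rw [Finset.sum_comm, Nat.card_eq_fintype_card, ← Finset.card_univ, ← nsmul_eq_mul,
      ← Finset.sum_const]
    refine Finset.sum_congr rfl fun l _ =>
      Fintype.sum_equiv (Equiv.mulRight (⟨(l : G), hLK l.2⟩ : K)) _ _ fun k => ?_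
    simp only [Equiv.coe_mulRight, Subgroup.coe_mul]
    congr 1
    · rw [mul_assoc, LinearMap.trace_mul_comm, mul_assoc, ← map_mul]
    · rw [LinearMap.trace_mul_comm, ← mul_assoc, ← map_mul, mul_inv_rev ((k : G) * l) (h : G)]
  refine mul_left_cancel₀ hLc ?_
  rw [mul_left_comm, h1, h2, h3]

end CfsgLib.ParityCorr
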