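import Cfsg.Agent.Lib.ParityCorr.Lifts
import Mathlib.RingTheory.RootsOfUnity.AlgebraicallyClosed
import Mathlib.GroupTheory.FiniteAbelian.Duality

/-!
# The commutant of a normal subgroup with abelian quotient

The endomorphisms commuting with `φ L` are spanned by twisted units, and what commutes with all of
them lies in the span of `φ L`.
-/

namespace CfsgLib.ParityCorr

open Cfsg CfsgLib.CharTheory

set_option linter.unusedVariables false
set_option linter.unusedSectionVars false
set_option linter.style.haveILetI false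

universe u v w

variable {K : Type u} [Group K] [Fintype K]
variable {W : Type v} [AddCommGroup W] [Module ℂ W] [FiniteDimensional ℂ W]

theorem finite_hom : Finite (K →* ℂˣ) := by
  haveI : NeZero (Nat.card K) := ⟨Nat.card_pos.ne'⟩
  refine Finite.of_injective (fun a : K →* ℂˣ => fun k : K =>
    (⟨a k, by rw [mem_rootsOfUnity, ← map_pow, pow_card_eq_one', map_one]⟩ :
      rootsOfUnity (Nat.card K) ℂ)) fun a b h => ?_
  refine MonoidHom.ext fun k => ?_
  exact congrArg Subtype.val (congrFun h k)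

/-- The linear characters trivial on `L`. -/
def dualTop (L : Subgroup K) : Subgroup (K →* ℂˣ) where
  carrier := {a | ∀ l ∈ L, a l = 1}
  one_mem' := fun l _ => rfl
  mul_mem' := fun {a b} ha hb l hl => by rw [MonoidHom.mul_apply, ha l hl, hb l hl, one_mul]
  inv_mem' := fun {a} ha l hl => by rw [MonoidHom.inv_apply, ha l hl, inv_one]

variable {L : Subgroup K} [L.Normal]

theorem exists_dual_ne_one (hab : ∀ x y : K, x * y * x⁻¹ * y⁻¹ ∈ L) {k : K} (hk : k ∉ L) :
    ∃ a ∈ dualTop L, a k ≠ 1 := by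
  letI : CommGroup (K ⧸ L) :=
    { (inferInstance : Group (K ⧸ L)) with
      mul_comm := fun x y => by
        obtain ⟨x, rfl⟩ := QuotientGroup.mk_surjective x
        obtain ⟨y, rfl⟩ := QuotientGroup.mk_surjective y
        rw [← QuotientGroup.mk_mul, ← QuotientGroup.mk_mul, QuotientGroup.eq]
        have h := hab y⁻¹ x⁻¹
        simp only [inv_inv] at h
        simpa [mul_assoc] using h }
  obtain ⟨a, ha⟩ := CommGroup.exists_apply_ne_one_of_hasEnoughRootsOfUnity (G := K ⧸ L) (M := ℂ)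
    (a := (k : K ⧸ L)) (fun h => hk ((QuotientGroup.eq_one_iff k).1 h))
  refine ⟨a.comp (QuotientGroup.mk' L), fun l hl => ?_, ha⟩
  rw [MonoidHom.comp_apply, QuotientGroup.mk'_apply, (QuotientGroup.eq_one_iff l).2 hl, map_one]

theorem sum_dualTop (hab : ∀ x y : K, x * y * x⁻¹ * y⁻¹ ∈ L) [Fintype (dualTop L)] (k : K)
    [Decidable (k ∈ L)] :
    ∑ a : dualTop L, (((a : K →* ℂˣ) k : ℂˣ) : ℂ) =
      if k ∈ L then (Nat.card (dualTop L) : ℂ) else 0 := by
  split_ifs with hk
  · rw [Finset.sum_congr rfl (g := fun _ => (1 : ℂ)) fun (a : dualTop L) _ => by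
      rw [a.2 k hk, Units.val_one], Finset.sum_const, Finset.card_univ, nsmul_eq_mul, mul_one,
      Nat.card_eq_fintype_card]
  · obtain ⟨a0, ha0, hne⟩ := exists_dual_ne_one hab hk
    have h : (((a0 k : ℂˣ) : ℂ) - 1) * ∑ a : dualTop L, (((a : K →* ℂˣ) k : ℂˣ) : ℂ) = 0 := by
      rw [sub_mul, one_mul, Finset.mul_sum, sub_eq_zero]
      exact Fintype.sum_equiv (Equiv.mulLeft (⟨a0, ha0⟩ : dualTop L)) _ _ fun a => by
        rw [Equiv.coe_mulLeft, Subgroup.coe_mul, MonoidHom.mul_apply, Units.val_mul]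
    refine (mul_eq_zero.1 h).resolve_left fun h0 => hne (Units.ext ?_)
    rw [Units.val_one]
    exact sub_eq_zero.1 h0

variable (φ : Representation ℂ K W)

/-- Averaging against a linear character. -/
noncomputable def twAvg (a : K →* ℂˣ) (M : Module.End ℂ W) : Module.End ℂ W :=
  ∑ k : K, ((a k⁻¹ : ℂˣ) : ℂ) • (φ k * M * φ k⁻¹)

omit [L.Normal] in
theorem twAvg_tw (a : K →* ℂˣ) (M : Module.End ℂ W) (j : K) :
    φ j * twAvg φ a M = (a j : ℂ) • (twAvg φ a M * φ j) := by
  rw [twAvg, Finset.mul_sum, Finset.sum_mul, Finset.smul_sum]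
  refine Fintype.sum_equiv (Equiv.mulLeft j) _ _ fun k => ?_
  rw [Equiv.coe_mulLeft, mul_smul_comm, smul_mul_assoc, smul_smul, mul_inv_rev, map_mul,
    mul_assoc (φ (j * k) * M), ← map_mul φ, show k⁻¹ * j⁻¹ * j = k⁻¹ by group, map_mul φ j k,
    ← Units.val_mul, map_inv a j, mul_left_comm, mul_inv_cancel, mul_one]
  simp only [mul_assoc]

theorem twAvg_comm {a : K →* ℂˣ} (ha : a ∈ dualTop L) (M : Module.End ℂ W) {l : K} (hl : l ∈ L) :
    φ l * twAvg φ a M = twAvg φ a M * φ l := by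
  rw [twAvg_tw, ha l hl, Units.val_one, one_smul]

variable [φ.IsIrreducible]

omit [L.Normal] in
theorem twAvg_one (M : Module.End ℂ W) :
    twAvg φ 1 M =
      ((Nat.card K : ℂ) * LinearMap.trace ℂ W M / (Module.finrank ℂ W : ℂ)) • 1 := by
  have hcomm : ∀ k, twAvg φ 1 M * φ k = φ k * twAvg φ 1 M := fun k => by
    rw [twAvg_tw, MonoidHom.one_apply, Units.val_one, one_smul]
  have h := eq_smul_id_of_commute φ _ hcomm
  rw [h]
  congr 2
  rw [twAvg, map_sum, Finset.sum_congr rfl fun k _ => show LinearMap.trace ℂ W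
      ((((1 : K →* ℂˣ) k⁻¹ : ℂˣ) : ℂ) • (φ k * M * φ k⁻¹)) = LinearMap.trace ℂ W M by
    rw [MonoidHom.one_apply, Units.val_one, one_smul, LinearMap.trace_mul_comm, ← mul_assoc,
      ← map_mul, inv_mul_cancel, map_one, one_mul],
    Finset.sum_const, Finset.card_univ, nsmul_eq_mul, Nat.card_eq_fintype_card]

/-- A nonzero twisted endomorphism is a twisted unit. -/
theorem exists_twSub_eq {u : Module.End ℂ W} (hu : u ≠ 0) {a : K →* ℂˣ}
    (hL : ∀ l ∈ L, φ l * u = u * φ l) (htw : ∀ k, φ k * u = (a k : ℂ) • (u * φ k)) :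
    ∃ x : twSub φ L, ((x : (Module.End ℂ W)ˣ) : Module.End ℂ W) = u ∧ aOf x = a := by
  obtain ⟨g, hg⟩ : ∃ g : K, LinearMap.trace ℂ W (u * φ g⁻¹) ≠ 0 := by
    by_contra hno
    push Not at hno
    exact hu (by rw [fourier φ u]; simp [hno])
  have h1 : u * twAvg φ a⁻¹ (φ g⁻¹) = twAvg φ 1 (u * φ g⁻¹) := by
    rw [twAvg, twAvg, Finset.mul_sum]
    refine Finset.sum_congr rfl fun k _ => ?_
    rw [MonoidHom.one_apply, Units.val_one, one_smul, mul_smul_comm, MonoidHom.inv_apply,
      map_inv, inv_inv, ← mul_assoc, ← mul_assoc, ← smul_mul_assoc, ← smul_mul_assoc, ← htw k,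
      mul_assoc (φ k)]
  rw [twAvg_one] at h1
  set c := (Nat.card K : ℂ) * LinearMap.trace ℂ W (u * φ g⁻¹) / (Module.finrank ℂ W : ℂ) with hc
  have hc0 : c ≠ 0 :=
    div_ne_zero (mul_ne_zero card_ne_zero' hg) (finrank_ne_zero_of_irr φ)
  have h2 : u * (c⁻¹ • twAvg φ a⁻¹ (φ g⁻¹)) = 1 := by
    rw [mul_smul_comm, h1, smul_smul, inv_mul_cancel₀ hc0, one_smul]
  refine ⟨⟨⟨u, _, h2, mul_eq_one_comm.1 h2⟩, hL, a, htw⟩, rfl, ?_⟩
  exact aOf_unique _ htw

variable (L) in
/-- The linear characters trivial on `L` that fix the character of `φ`. -/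
def delta : Subgroup (K →* ℂˣ) where
  carrier := {a | a ∈ dualTop L ∧ ∀ k, (a k : ℂ) * φ.character k = φ.character k}
  one_mem' := ⟨(dualTop L).one_mem, fun k => by simp⟩
  mul_mem' := fun {a b} ha hb => ⟨(dualTop L).mul_mem ha.1 hb.1, fun k => by
    rw [MonoidHom.mul_apply, Units.val_mul, mul_assoc, hb.2, ha.2]⟩
  inv_mem' := fun {a} ha => ⟨(dualTop L).inv_mem ha.1, fun k => by
    conv_lhs => rw [← ha.2 k]
    rw [MonoidHom.inv_apply, ← mul_assoc, ← Units.val_mul, inv_mul_cancel, Units.val_one, one_mul]⟩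

theorem aOf_mem_delta (x : twSub φ L) : aOf x ∈ delta L φ := by
  refine ⟨fun l hl => aOf_apply_mem x hl, fun k => ?_⟩
  have h := congrArg (fun X => LinearMap.trace ℂ W
    (X * (((x : (Module.End ℂ W)ˣ)⁻¹ : (Module.End ℂ W)ˣ) : Module.End ℂ W))) (aOf_spec x k)
  simp only [smul_mul_assoc, map_smul, smul_eq_mul, Units.mul_inv_cancel_right] at h
  rw [LinearMap.trace_mul_comm ℂ (((x : (Module.End ℂ W)ˣ) : Module.End ℂ W) * φ k),
    Units.inv_mul_cancel_left] at h
  exact h.symm

theorem sum_char_of_twAvg_zero {a : K →* ℂˣ} (hno : ∀ M, twAvg φ a M = 0) :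
    ∑ k : K, (a k⁻¹ : ℂ) * φ.character k⁻¹ * φ.character k = 0 := by
  set b := Module.finBasis ℂ W with hb
  have h : ∑ i, ∑ j, b.repr (twAvg φ a ((b.coord j).smulRight (b i)) (b j)) i = 0 :=
    Finset.sum_eq_zero fun i _ => Finset.sum_eq_zero fun j _ => by
      rw [hno, LinearMap.zero_apply, map_zero, Finsupp.zero_apply]
  simp only [twAvg, LinearMap.sum_apply, LinearMap.smul_apply, Module.End.mul_apply,
    LinearMap.smulRight_apply, map_smul, map_sum, Finsupp.finsetSum_apply, Finsupp.smul_apply,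
    Module.Basis.coord_apply, smul_eq_mul] at h
  rw [Finset.sum_congr rfl fun i _ => Finset.sum_comm, Finset.sum_comm] at h
  rw [← h]
  refine Finset.sum_congr rfl fun k _ => ?_
  simp only [Representation.character, trace_eq_sum_repr b, Finset.sum_mul, Finset.mul_sum]
  refine Finset.sum_congr rfl fun i _ => Finset.sum_congr rfl fun j _ => ?_
  ring

theorem sum_char_inv_mul_self :
    ∑ k : K, φ.character k⁻¹ * φ.character k = (Nat.card K : ℂ) := by
  have h1 := sum_trace_mul_trace φ (1 : Module.End ℂ W) 1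
  simp only [one_mul, mul_one, LinearMap.trace_one,
    div_mul_cancel₀ _ (finrank_ne_zero_of_irr φ)] at h1
  rw [← h1]
  exact Finset.sum_congr rfl fun k _ => mul_comm _ _

theorem exists_lift {a : K →* ℂˣ} (ha : a ∈ delta L φ) : ∃ x : twSub φ L, aOf x = a := by
  classical
  obtain ⟨M, hM⟩ : ∃ M, twAvg φ a M ≠ 0 := by
    by_contra hno
    push Not at hno
    have h := sum_char_of_twAvg_zero φ hno
    simp only [ha.2, sum_char_inv_mul_self φ] at h
    exact card_ne_zero' h
  obtain ⟨x, -, hx⟩ := exists_twSub_eq φ hM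
    (fun l hl => twAvg_comm φ ha.1 M hl) (twAvg_tw φ a M)
  exact ⟨x, hx⟩

theorem sum_char_of_not_delta {a : K →* ℂˣ} (hD : a ∈ dualTop L) (ha : a ∉ delta L φ) :
    ∑ k : K, (a k⁻¹ : ℂ) * φ.character k⁻¹ * φ.character k = 0 := by
  refine sum_char_of_twAvg_zero φ fun M => ?_
  by_contra hM
  obtain ⟨x, -, hx⟩ := exists_twSub_eq φ hM (fun l hl => twAvg_comm φ hD M hl) (twAvg_tw φ a M)
  exact ha (hx ▸ aOf_mem_delta φ x)

/-- The inertia group of linear characters has order the square of the ramification. -/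
theorem card_delta (hab : ∀ x y : K, x * y * x⁻¹ * y⁻¹ ∈ L) [Fintype L]
    {U : Type w} [AddCommGroup U] [Module ℂ U] [FiniteDimensional ℂ U]
    (θr : Representation ℂ L U) [θr.IsIrreducible] {e : ℂ}
    (he : ∀ l : L, φ.character l = e * θr.character l) :
    (Nat.card (delta L φ) : ℂ) = e * e := by
  classical
  haveI := finite_hom (K := K)
  haveI := Fintype.ofFinite (dualTop L)
  have key : ∀ f : K → ℂ, ∑ a : dualTop L, ∑ k : K, ((a : K →* ℂˣ) k⁻¹ : ℂ) * f k =
      (Nat.card (dualTop L) : ℂ) * ∑ l : L, f l := by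
    intro f
    rw [Finset.sum_comm]
    simp only [← Finset.sum_mul, sum_dualTop hab, inv_mem_iff, ite_mul, zero_mul]
    rw [← Finset.sum_filter, Finset.mul_sum,
      Finset.sum_subtype _ (p := fun k => k ∈ L) (fun k => by simp)]
  have h1 : ∀ a : dualTop L, ∑ k : K, ((a : K →* ℂˣ) k⁻¹ : ℂ) *
      (φ.character k⁻¹ * φ.character k) =
        if (a : K →* ℂˣ) ∈ delta L φ then (Nat.card K : ℂ) else 0 := by
    intro a
    split_ifs with ha
    · rw [← sum_char_inv_mul_self φ]
      exact Finset.sum_congr rfl fun k _ => by rw [← mul_assoc, ha.2]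
    · rw [← sum_char_of_not_delta φ a.2 ha]
      exact Finset.sum_congr rfl fun k _ => (mul_assoc _ _ _).symm
  have h2 : ∀ a : dualTop L, ∑ k : K, ((a : K →* ℂˣ) k⁻¹ : ℂ) * 1 =
      if a = 1 then (Nat.card K : ℂ) else 0 := by
    intro a
    split_ifs with ha
    · simp [ha, Nat.card_eq_fintype_card]
    · obtain ⟨k0, hk0⟩ : ∃ k0, (a : K →* ℂˣ) k0 ≠ 1 := by
        by_contra hno
        push Not at hno
        exact ha (Subtype.ext (MonoidHom.ext hno))
      simp only [mul_one]
      have h : (((a : K →* ℂˣ) k0 : ℂ) - 1) * ∑ k : K, ((a : K →* ℂˣ) k⁻¹ : ℂ) = 0 := by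
        rw [sub_mul, one_mul, Finset.mul_sum, sub_eq_zero]
        refine Fintype.sum_equiv (Equiv.mulRight k0⁻¹) _ _ fun k => ?_
        rw [Equiv.coe_mulRight, mul_inv_rev, inv_inv, map_mul, Units.val_mul]
      refine (mul_eq_zero.1 h).resolve_left fun h0 => hk0 (Units.ext ?_)
      rw [Units.val_one]
      exact sub_eq_zero.1 h0
  have hN : (Nat.card (dualTop L) : ℂ) * Nat.card L = Nat.card K := by
    have h := key fun _ => 1
    simp only [h2] at h
    rw [Finset.sum_ite_eq' Finset.univ (1 : dualTop L) fun _ => (Nat.card K : ℂ),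
      if_pos (Finset.mem_univ _), Finset.sum_const,
      Finset.card_univ, nsmul_eq_mul, mul_one, ← Nat.card_eq_fintype_card] at h
    exact h.symm
  have hθ : ∑ l : L, φ.character (l : K)⁻¹ * φ.character l = e * e * Nat.card L := by
    rw [← sum_char_inv_mul_self θr, Finset.mul_sum]
    refine Finset.sum_congr rfl fun l _ => ?_
    rw [show ((l : K))⁻¹ = ((l⁻¹ : L) : K) from rfl, he, he]
    ring
  have h := key fun k => φ.character k⁻¹ * φ.character k
  simp only [h1] at h
  rw [hθ, ← Finset.sum_filter, Finset.sum_const, nsmul_eq_mul, ← mul_assoc, mul_comm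
    (Nat.card (dualTop L) : ℂ) (e * e), mul_assoc, hN] at h
  have hc : (Finset.univ.filter fun a : dualTop L => (a : K →* ℂˣ) ∈ delta L φ).card =
      Nat.card (delta L φ) := by
    rw [← Fintype.card_subtype, ← Nat.card_eq_fintype_card]
    exact Nat.card_congr
      { toFun := fun a => ⟨a.1.1, a.2⟩
        invFun := fun a => ⟨⟨a.1, a.2.1⟩, a.2⟩
        left_inv := fun a => rfl
        right_inv := fun a => rfl }
  rw [hc] at h
  exact mul_right_cancel₀ card_ne_zero' h

/-- The commutant of `φ L` is spanned by the twisted units. -/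
theorem mem_span_twSub (hab : ∀ x y : K, x * y * x⁻¹ * y⁻¹ ∈ L) {M : Module.End ℂ W}
    (hM : ∀ l ∈ L, φ l * M = M * φ l) :
    M ∈ Submodule.span ℂ (Set.range fun x : twSub φ L =>
      ((x : (Module.End ℂ W)ˣ) : Module.End ℂ W)) := by
  classical
  haveI := finite_hom (K := K)
  haveI := Fintype.ofFinite (dualTop L)
  have h1 : ∑ a : dualTop L, twAvg φ (a : K →* ℂˣ) M =
      ((Nat.card (dualTop L) : ℂ) * Nat.card L) • M := by
    simp only [twAvg]
    rw [Finset.sum_comm]
    simp only [← Finset.sum_smul, sum_dualTop hab, inv_mem_iff, ite_smul, zero_smul]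
    rw [← Finset.sum_filter, Finset.sum_congr rfl fun k hk => show
        (Nat.card (dualTop L) : ℂ) • (φ k * M * φ k⁻¹) = (Nat.card (dualTop L) : ℂ) • M by
      rw [hM k (Finset.mem_filter.1 hk).2, mul_assoc, ← map_mul, mul_inv_cancel, map_one, mul_one],
      Finset.sum_const, ← Nat.cast_smul_eq_nsmul ℂ, smul_smul,
      Nat.card_eq_fintype_card (α := L), Fintype.card_subtype, mul_comm]
  have hne : (Nat.card (dualTop L) : ℂ) * Nat.card L ≠ 0 :=
    mul_ne_zero (Nat.cast_ne_zero.2 Nat.card_pos.ne') (Nat.cast_ne_zero.2 Nat.card_pos.ne')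
  rw [show M = ((Nat.card (dualTop L) : ℂ) * Nat.card L)⁻¹ •
      ∑ a : dualTop L, twAvg φ (a : K →* ℂˣ) M by rw [h1, smul_smul, inv_mul_cancel₀ hne, one_smul]]
  refine Submodule.smul_mem _ _ (Submodule.sum_mem _ fun a _ => ?_)
  by_cases h0 : twAvg φ (a : K →* ℂˣ) M = 0
  · rw [h0]; exact Submodule.zero_mem _
  · obtain ⟨x, hx, -⟩ := exists_twSub_eq φ h0 (fun l hl => twAvg_comm φ a.2 M hl)
      (twAvg_tw φ _ M)
    exact Submodule.subset_span ⟨x, hx⟩

omit [L.Normal] in
theorem restrict_inv_comm (u : Module.End ℂ W) (hu : ∀ l ∈ L, φ l * u = u * φ l) :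
    IsClassFunction L fun l : L => LinearMap.trace ℂ W (φ (l : K)⁻¹ * u) := by
  intro l h
  show LinearMap.trace ℂ W (φ ((h * l * h⁻¹ : L) : K)⁻¹ * u) = LinearMap.trace ℂ W (φ (l : K)⁻¹ * u)
  have e : ((h * l * h⁻¹ : L) : K)⁻¹ = (h : K) * (l : K)⁻¹ * (h : K)⁻¹ := by
    simp [mul_assoc]
  rw [e, map_mul φ, map_mul φ, mul_assoc _ (φ (h : K)⁻¹), hu _ (L.inv_mem h.2), ← mul_assoc,
    LinearMap.trace_mul_comm, ← mul_assoc, ← mul_assoc, ← map_mul φ (h : K)⁻¹, inv_mul_cancel,
    map_one, one_mul]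

/-- What commutes with all twisted units is a combination of `φ L`; if it also commutes with
`φ L` it is a scalar. -/
theorem mem_span_of_commutes (hab : ∀ x y : K, x * y * x⁻¹ * y⁻¹ ∈ L) [Fintype L]
    {U : Type w} [AddCommGroup U] [Module ℂ U] [FiniteDimensional ℂ U]
    (θr : Representation ℂ L U) [θr.IsIrreducible] {e : ℂ}
    (he : ∀ l : L, φ.character l = e * θr.character l) {u : Module.End ℂ W}
    (hu : ∀ x : twSub φ L, u * ((x : (Module.End ℂ W)ˣ) : Module.End ℂ W) =
      ((x : (Module.End ℂ W)ˣ) : Module.End ℂ W) * u) :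
    u ∈ Submodule.span ℂ (Set.range fun l : L => φ (l : K)) ∧
      ((∀ l ∈ L, φ l * u = u * φ l) →
        u = (LinearMap.trace ℂ W u / (Module.finrank ℂ W : ℂ)) • 1) := by
  classical
  -- everything commuting with `φ L` commutes with `u`
  have hZ : ∀ M : Module.End ℂ W, (∀ l ∈ L, φ l * M = M * φ l) → u * M = M * u := by
    intro M hM
    refine Submodule.span_induction ?_ ?_ ?_ ?_ (mem_span_twSub φ hab hM)
    · rintro _ ⟨x, rfl⟩; exact hu x
    · simp
    · intro a b _ _ ha hb; rw [mul_add, add_mul, ha, hb]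
    · intro c a _ ha; rw [mul_smul_comm, smul_mul_assoc, ha]
  have hP : ∀ (X : Module.End ℂ W), ∀ l ∈ L, φ l * (∑ m : L, φ (m : K) * X * φ (m : K)⁻¹) =
      (∑ m : L, φ (m : K) * X * φ (m : K)⁻¹) * φ l := by
    intro X l hl
    rw [Finset.mul_sum, Finset.sum_mul]
    refine Fintype.sum_equiv (Equiv.mulLeft (⟨l, hl⟩ : L)) _ _ fun m => ?_
    rw [Equiv.coe_mulLeft, Subgroup.coe_mul, mul_inv_rev, map_mul, map_mul]
    simp only [mul_assoc]
    rw [← map_mul φ l⁻¹ l, inv_mul_cancel, map_one, mul_one]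
  set b := Module.finBasis ℂ W with hb
  -- the contraction
  have key : u * ∑ l : L, φ.character (l : K)⁻¹ • φ (l : K) =
      ∑ l : L, LinearMap.trace ℂ W (φ (l : K)⁻¹ * u) • φ (l : K) := by
    refine LinearMap.ext fun w => ?_
    simp only [Module.End.mul_apply, LinearMap.sum_apply, LinearMap.smul_apply, map_sum, map_smul,
      Representation.character, trace_eq_sum_repr b, Finset.sum_smul]
    rw [Finset.sum_comm]
    conv_rhs => rw [Finset.sum_comm]
    refine Finset.sum_congr rfl fun j _ => ?_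
    have h := LinearMap.congr_fun (hZ _ (hP ((b.coord j).smulRight w))) (b j)
    simp only [Module.End.mul_apply, LinearMap.sum_apply, map_sum,
      LinearMap.smulRight_apply, map_smul, Module.Basis.coord_apply] at h
    exact h
  set c : ℂ := e * ((Nat.card L : ℂ) / (Module.finrank ℂ U : ℂ)) with hc
  have hQ : ∑ l : L, φ.character (l : K)⁻¹ • φ (l : K) = c • (1 : Module.End ℂ W) := by
    have h1 := theta_one θr (φ.comp L.subtype) (f := e) he
    rw [theta_apply] at h1
    simp only [one_mul] at h1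
    have h2 := congrArg (fun X => c • X) h1
    simp only [smul_smul] at h2
    rw [show c * ((Module.finrank ℂ U : ℂ) / Nat.card L) = e by
      rw [hc]
      field_simp [finrank_ne_zero_of_irr θr, card_ne_zero' (K := L)]] at h2
    rw [← h2, Finset.smul_sum]
    refine Finset.sum_congr rfl fun l _ => ?_
    rw [smul_smul, show ((l : K))⁻¹ = ((l⁻¹ : L) : K) from rfl, he]
    rfl
  have hc0 : c ≠ 0 := by
    intro h0
    rcases mul_eq_zero.1 (show e * ((Nat.card L : ℂ) / (Module.finrank ℂ U : ℂ)) = 0 from h0)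
      with he0 | h3
    · have h4 := he 1
      rw [he0, zero_mul, OneMemClass.coe_one] at h4
      simp only [Representation.character, map_one, LinearMap.trace_one] at h4
      exact finrank_ne_zero_of_irr φ h4
    · exact div_ne_zero card_ne_zero' (finrank_ne_zero_of_irr θr) h3
  rw [hQ, mul_smul_comm, mul_one] at key
  have hu' : u = c⁻¹ • ∑ l : L, LinearMap.trace ℂ W (φ (l : K)⁻¹ * u) • φ (l : K) := by
    rw [← key, smul_smul, inv_mul_cancel₀ hc0, one_smul]
  refine ⟨?_, fun hcomm => ?_⟩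
  · rw [hu']
    exact Submodule.smul_mem _ _ (Submodule.sum_mem _ fun l _ =>
      Submodule.smul_mem _ _ (Submodule.subset_span ⟨l, rfl⟩))
  · have h1 := congrArg (theta θr (φ.comp L.subtype))
      (sum_smul_eq_smul_one θr (restrict_inv_comm φ u hcomm))
    rw [map_sum, map_smul, theta_one θr _ he] at h1
    simp only [map_smul, theta_rep θr (φ.comp L.subtype) he] at h1
    obtain ⟨d, hd⟩ : ∃ d : ℂ, u = d • 1 := ⟨_, by
      rw [hu', show (∑ l : L, LinearMap.trace ℂ W (φ (l : K)⁻¹ * u) • φ (l : K)) = _ from h1,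
        smul_smul]⟩
    conv_lhs => rw [hd]
    rw [hd, map_smul, LinearMap.trace_one, smul_eq_mul,
      mul_div_cancel_right₀ _ (finrank_ne_zero_of_irr φ)]

end CfsgLib.ParityCorr
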