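import Cfsg.Agent.Lib.ParityCorr.Op

/-!
# Properties of the parity operator
-/

namespace CfsgLib.ParityCorr

open Cfsg CfsgLib.CharTheory

set_option linter.unusedVariables false
set_option linter.unusedSectionVars false
set_option linter.style.haveILetI false

universe u v w x

variable {K : Type u} [Group K] [Fintype K]
variable {W : Type v} [AddCommGroup W] [Module ℂ W] [FiniteDimensional ℂ W]
variable {φ : Representation ℂ K W} {L : Subgroup K} [φ.IsIrreducible] [L.Normal]
variable [hodd : Fact (Odd (Nat.card K))]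
variable {S : Type w} [Group S] [Fintype S] {σ : S →* symSub φ L}
variable (hfix : NoFixed σ) (hcop : (Fintype.card S).Coprime (Nat.card K))

/-- The pairing of two lifts. -/
noncomputable def pairing (b c : delta L φ) : ℂˣ :=
  gam (lift σ hcop b).val (lift σ hcop c).val

theorem pairing_mul_left (b b' c : delta L φ) :
    pairing (σ := σ) hcop (b * b') c = pairing (σ := σ) hcop b c * pairing (σ := σ) hcop b' c := by
  rw [pairing, lift_mul, Baer.mul_val, gam_mul_left, gam_scTw_left, one_mul, gam_mul_left]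
  rfl

theorem pairing_swap (b c : delta L φ) :
    pairing (σ := σ) hcop c b = (pairing (σ := σ) hcop b c)⁻¹ := gam_swap _ _

theorem pairing_self (b : delta L φ) : pairing (σ := σ) hcop b b = 1 := gam_self _

theorem pairing_one_left (c : delta L φ) : pairing (σ := σ) hcop 1 c = 1 := by
  rw [pairing, lift_one, Baer.one_val, gam_one_left]

theorem pairing_inv_left (b c : delta L φ) :
    pairing (σ := σ) hcop b⁻¹ c = (pairing (σ := σ) hcop b c)⁻¹ := by
  refine eq_inv_of_mul_eq_one_left ?_
  rw [← pairing_mul_left, inv_mul_cancel, pairing_one_left]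

theorem pairing_mul_right (b c c' : delta L φ) :
    pairing (σ := σ) hcop b (c * c') = pairing (σ := σ) hcop b c * pairing (σ := σ) hcop b c' := by
  rw [pairing_swap hcop (c * c') b, pairing_mul_left, mul_inv, ← pairing_swap, ← pairing_swap]

theorem pairing_inv_right (b c : delta L φ) :
    pairing (σ := σ) hcop b c⁻¹ = (pairing (σ := σ) hcop b c)⁻¹ := by
  rw [pairing_swap hcop c⁻¹ b, pairing_inv_left, ← pairing_swap]

theorem yEnd_mul' (b c : delta L φ) :
    yEnd (σ := σ) hcop b * yEnd (σ := σ) hcop c =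
      (pairing (σ := σ) hcop b c : ℂ) • yEnd (σ := σ) hcop (b * c) := by
  rw [← yEnd_mul hcop b c, smul_smul, kap, pairing, ← Units.val_mul, gam_swap (lift σ hcop b).val,
    mul_inv_cancel, Units.val_one, one_smul]

variable [Fintype (delta L φ)]

theorem parity₀_mul_yEnd (b : delta L φ) :
    parity₀ (σ := σ) hcop * yEnd (σ := σ) hcop b =
      yEnd (σ := σ) hcop b⁻¹ * parity₀ (σ := σ) hcop := by
  rw [parity₀, Finset.sum_mul, Finset.mul_sum]
  refine Fintype.sum_equiv (Equiv.mulRight (b * b)) _ _ fun a => ?_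
  rw [Equiv.coe_mulRight, yEnd_mul', yEnd_mul']
  congr 1
  · congr 1
    rw [pairing_inv_left, pairing_mul_right, pairing_mul_right, pairing_self, mul_one, mul_one,
      ← pairing_swap]
  · congr 1
    show a * b = b⁻¹ * (a * (b * b))
    rw [mul_comm a (b * b), mul_assoc b b a, inv_mul_cancel_left, mul_comm]

theorem parity₀_comm_L {l : K} (hl : l ∈ L) :
    φ l * parity₀ (σ := σ) hcop = parity₀ (σ := σ) hcop * φ l := by
  rw [parity₀, Finset.mul_sum, Finset.sum_mul]
  exact Finset.sum_congr rfl fun b _ => twSub_comm _ hl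

include hfix in
theorem commutes_twSub_of_yEnd {u : Module.End ℂ W}
    (h : ∀ b : delta L φ, u * yEnd (σ := σ) hcop b = yEnd (σ := σ) hcop b * u) (x : twSub φ L) :
    u * ((x : (Module.End ℂ W)ˣ) : Module.End ℂ W) =
      ((x : (Module.End ℂ W)ˣ) : Module.End ℂ W) * u := by
  set b : delta L φ := ⟨aOf x, aOf_mem_delta φ x⟩ with hb
  obtain ⟨c, hc⟩ := exists_scalar_of_aOf (x := x * ((lift σ hcop b).val)⁻¹) (by
    show aHom (x * ((lift σ hcop b).val)⁻¹) = 1
    rw [map_mul, map_inv, show aHom (lift σ hcop b).val = aHom x from aBaer_lift hfix hcop b]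
    exact MonoidHom.ext fun k => by simp)
  rw [mul_inv_eq_iff_eq_mul] at hc
  rw [hc, Subgroup.coe_mul, Units.val_mul, scTw_coe, sc_val, smul_one_mul, mul_smul_comm,
    smul_mul_assoc]
  exact congrArg _ (h b)

include hfix hcop in
/-- The parity operator. -/
theorem exists_parity (hab : ∀ x y : K, x * y * x⁻¹ * y⁻¹ ∈ L) [Fintype L]
    {U : Type x} [AddCommGroup U] [Module ℂ U] [FiniteDimensional ℂ U]
    (θr : Representation ℂ L U) [θr.IsIrreducible] {e : ℂ}
    (he : ∀ l : L, φ.character l = e * θr.character l) :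
    ∃ T : Module.End ℂ W, T * T = 1 ∧ e * LinearMap.trace ℂ W T = Module.finrank ℂ W ∧
      (∀ l ∈ L, φ l * T = T * φ l) ∧
      (∀ k : K, T * φ k * T * φ k ∈ Submodule.span ℂ (Set.range fun l : L => φ (l : K))) ∧
      (∀ τ : symSub φ L, (∀ s, τ * σ s = σ s * τ) → sig τ T = T) := by
  classical
  have hd := finrank_ne_zero_of_irr φ
  have he0 : e ≠ 0 := by
    intro h0
    have h4 := he 1
    rw [h0, zero_mul, OneMemClass.coe_one] at h4
    simp only [Representation.character, map_one, LinearMap.trace_one] at h4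
    exact hd h4
  have hn : (Fintype.card (delta L φ) : ℂ) = e * e := by
    rw [← Nat.card_eq_fintype_card]; exact card_delta φ hab θr he
  set T₀ := parity₀ (σ := σ) hcop with hT₀
  have htr : LinearMap.trace ℂ W T₀ = Module.finrank ℂ W := by
    rw [hT₀, parity₀, map_sum, Finset.sum_eq_single (1 : delta L φ)
      (fun b _ hb => trace_yEnd hfix hcop b hb) (fun h => absurd (Finset.mem_univ _) h),
      yEnd_one, LinearMap.trace_one]
  have hsq : T₀ * T₀ = (e * e) • 1 := by
    have hcomm : ∀ x : twSub φ L, T₀ * T₀ * ((x : (Module.End ℂ W)ˣ) : Module.End ℂ W) =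
        ((x : (Module.End ℂ W)ˣ) : Module.End ℂ W) * (T₀ * T₀) :=
      commutes_twSub_of_yEnd hfix hcop fun b => by
        rw [mul_assoc, parity₀_mul_yEnd, ← mul_assoc, parity₀_mul_yEnd, inv_inv, mul_assoc]
    have h := (mem_span_of_commutes φ hab θr he hcomm).2 fun l hl => by
      rw [← mul_assoc, parity₀_comm_L hcop hl, mul_assoc, parity₀_comm_L hcop hl, mul_assoc]
    rw [h]
    congr 1
    rw [div_eq_iff hd, ← hn, hT₀, parity₀, Finset.sum_mul, map_sum]
    simp only [Finset.mul_sum, map_sum, yEnd_mul', map_smul, smul_eq_mul]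
    rw [Finset.sum_congr rfl (g := fun _ => (Module.finrank ℂ W : ℂ)) fun a _ => ?_,
      Finset.sum_const, Finset.card_univ, nsmul_eq_mul]
    rw [Finset.sum_eq_single a⁻¹ (fun b _ hb => by
        rw [trace_yEnd hfix hcop _ (fun h => hb (eq_inv_of_mul_eq_one_right h)), mul_zero])
      (fun h => absurd (Finset.mem_univ _) h), mul_inv_cancel, yEnd_one, LinearMap.trace_one,
      pairing_inv_right, pairing_self, inv_one, Units.val_one, one_mul]
  refine ⟨e⁻¹ • T₀, ?_, ?_, ?_, ?_, ?_⟩
  · rw [smul_mul_smul_comm, hsq, smul_smul,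
      show e⁻¹ * e⁻¹ * (e * e) = 1 by field_simp, one_smul]
  · rw [map_smul, smul_eq_mul, htr, ← mul_assoc, mul_inv_cancel₀ he0, one_mul]
  · intro l hl
    rw [mul_smul_comm, smul_mul_assoc, parity₀_comm_L hcop hl]
  · intro k
    simp only [smul_mul_assoc, mul_smul_comm, smul_smul]
    refine Submodule.smul_mem _ _ (mem_span_of_commutes φ hab θr he
      (commutes_twSub_of_yEnd hfix hcop fun b => ?_)).1
    have hk : ∀ c : delta L φ, φ k * yEnd (σ := σ) hcop c =
        ((c : K →* ℂˣ) k : ℂ) • (yEnd (σ := σ) hcop c * φ k) := fun c => by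
      have h := aOf_spec (lift σ hcop c).val k
      rw [← aBaer_apply, aBaer_lift hfix hcop] at h
      exact h
    calc T₀ * φ k * T₀ * φ k * yEnd (σ := σ) hcop b
        = ((b : K →* ℂˣ) k : ℂ) • (T₀ * φ k * (T₀ * yEnd (σ := σ) hcop b) * φ k) := by
          rw [mul_assoc _ (φ k), hk, mul_smul_comm]
          simp only [mul_assoc]
      _ = ((b : K →* ℂˣ) k : ℂ) • (T₀ * (φ k * yEnd (σ := σ) hcop b⁻¹) * T₀ * φ k) := by
          rw [parity₀_mul_yEnd]
          simp only [mul_assoc, hT₀]
      _ = (T₀ * yEnd (σ := σ) hcop b⁻¹) * φ k * T₀ * φ k := by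
          rw [hk, mul_smul_comm, smul_mul_assoc, smul_mul_assoc, smul_smul, Subgroup.coe_inv,
            MonoidHom.inv_apply, ← Units.val_mul, mul_inv_cancel, Units.val_one, one_smul]
          simp only [mul_assoc]
      _ = yEnd (σ := σ) hcop b * (T₀ * φ k * T₀ * φ k) := by
          rw [parity₀_mul_yEnd, inv_inv]
          simp only [mul_assoc, hT₀]
  · intro τ hτ
    rw [map_smul, sig_parity₀ hfix hcop τ hτ]

end CfsgLib.ParityCorr
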