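import Cfsg.Agent.Lib.ParityCorr.Invariant
import Cfsg.Agent.Lib.ParityCorr.Operator

/-!
# The parity map over an invariant character without fixed points on the section
-/

namespace CfsgLib.ParityCorr

open Cfsg CfsgLib.CharTheory CfsgLib.Glauberman
open scoped ComplexConjugate

set_option linter.unusedVariables false
set_option linter.unusedSectionVars false
set_option linter.style.haveILetI false

universe u v w

variable {G : Type u} [Group G] [Fintype G] {S : Type w} [Group S] [Fintype S]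
variable {φS : S →* MulAut G} {K L H : Subgroup G}
variable [K.Normal] [L.Normal] [Fintype K] [Fintype L] [Fintype H]

namespace Setup

/-- The parity map on the characters over the invariant character of `K`. -/
theorem exists_map (D : Setup φS K L H) {θ : L → ℂ} (hθ : IsIrrCharacter L θ)
    (hG : ∀ g : G, conjNormFun L g θ = θ) (φ₀ : IrrCharacter K) (hi : InvOn φS K φ₀)
    (hg : ∀ g, conjNormFun K g (φ₀ : K → ℂ) = φ₀)
    (hover : classInner (fun l : L => (φ₀ : K → ℂ) ⟨l, D.leK l.2⟩) θ ≠ 0) :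
    ∃ (e : ℂ) (F : IrrCharacter G → IrrCharacter H), e ≠ 0 ∧
      (φ₀ : K → ℂ) 1 = e * θ 1 ∧
      ∀ χ : IrrCharacter G, classInner (fun k : K => (χ : G → ℂ) k) (φ₀ : K → ℂ) ≠ 0 →
        classInner (fun l : L => (χ : G → ℂ) l) θ ≠ 0 ∧
        classInner (fun l : L => (F χ : H → ℂ) ⟨l, D.leH l.2⟩) θ ≠ 0 ∧
        (χ : G → ℂ) 1 * (χ : G → ℂ) 1 = e * e * ((F χ : H → ℂ) 1 * (F χ : H → ℂ) 1) ∧
        (∀ (η : IrrCharacter H) (m : ℕ),
          classInner (fun h : H => (χ : G → ℂ) h) (η : H → ℂ) = m → (Odd m ↔ η = F χ)) ∧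
        ∀ χ' : IrrCharacter G, classInner (fun k : K => (χ' : G → ℂ) k) (φ₀ : K → ℂ) ≠ 0 →
          F χ = F χ' → χ = χ' := by
  classical
  haveI hodd : Fact (Odd (Nat.card K)) :=
    ⟨D.odd.of_dvd_nat (Subgroup.card_subgroup_dvd_card K)⟩
  set L' := L.subgroupOf K with hL'
  haveI := Fintype.ofFinite L'
  obtain ⟨d, φr, hφr, hφc⟩ := φ₀.2
  haveI := hφr
  have hθ' := isIrr_subgroupOf L D.leK hθ
  obtain ⟨d', θr, hθr, hθc⟩ := hθ'
  haveI := hθr
  have hover' : classInner (fun x : L' => (φ₀ : K → ℂ) x)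
      (fun x : L' => θ ⟨((x : K) : G), Subgroup.mem_subgroupOf.mp x.2⟩) ≠ 0 := by
    rw [classInner_subgroupOf L D.leK (φ₀ : K → ℂ) θ]; exact hover
  set e : ℂ := classInner (fun x : L' => (φ₀ : K → ℂ) x)
      (fun x : L' => θ ⟨((x : K) : G), Subgroup.mem_subgroupOf.mp x.2⟩) with he'
  have hres := clifford_invariant L' φ₀.2 (isIrr_subgroupOf L D.leK hθ) hover' fun k => by
    funext x
    exact congrFun (hG (k : G)) ⟨((x : K) : G), Subgroup.mem_subgroupOf.mp x.2⟩
  have he : ∀ l : L', φr.character (l : K) = e * θr.character l := fun l => by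
    rw [hφc, hθc]; exact congrFun hres l
  -- the operators
  let σ : S →* symSub φr L' := D.onK.codRestrict (symSub φr L') fun s => by
    refine ⟨fun k => ?_, fun l => ?_⟩
    · rw [hφc]; exact hi s k _ rfl
    · refine ⟨fun h => ?_, fun h => D.stabL s (l : G) h⟩
      have h' := D.stabL s⁻¹ _ h
      replace h' : φS s⁻¹ (φS s (l : G)) ∈ L := h'
      show (l : G) ∈ L
      rwa [map_inv, MulAut.inv_apply_self] at h'
  have hfix : NoFixed σ := fun a ha hfx => fixed_dual_trivial L' D.onK D.sub_comm D.copK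
    (fun s l hl => D.stabL s (l : G) hl) D.onK_fp ha hfx
  haveI := finite_hom (K := K)
  haveI := Fintype.ofFinite (delta L' φr)
  obtain ⟨T, hT2, hTtr, hTL, hTk, hTsig⟩ :=
    exists_parity hfix D.copK D.sub_comm θr he
  rw [Module.finrank_fin_fun] at hTtr
  have he1 : (φ₀ : K → ℂ) 1 = e * θ 1 := congrFun hres 1
  have he0 : e ≠ 0 := hover'
  -- the operators coming from fixed elements
  have hTc : ∀ c : G, (∀ s, φS s c = c) → ∃ τ : symSub φr L',
      (∀ k : K, (((τ : MulAut K) k : K) : G) = c * k * c⁻¹) ∧ sig τ T = T := by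
    intro c hc
    refine ⟨⟨MulAut.conjNormal c, fun k => ?_, fun l => ?_⟩,
      fun k => MulAut.conjNormal_apply _ _, hTsig _ fun s => ?_⟩
    · rw [hφc]
      exact (congrFun (conjNormFun_eq K c (φ₀ : K → ℂ)) k).symm.trans (congrFun (hg c) k)
    · show ((MulAut.conjNormal c l : K) : G) ∈ L ↔ (l : G) ∈ L
      rw [MulAut.conjNormal_apply]
      exact ⟨fun h => by simpa [mul_assoc] using D.normL.conj_mem _ h c⁻¹,
        fun h => D.normL.conj_mem _ h c⟩
    · refine Subtype.ext (MulEquiv.ext fun k => Subtype.ext ?_)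
      show ((MulAut.conjNormal c (D.onK s k) : K) : G) = φS s ((MulAut.conjNormal c k : K) : G)
      rw [MulAut.conjNormal_apply, MulAut.conjNormal_apply, map_mul, map_mul, map_inv, hc]
      rfl
  let TT : ∀ {n : ℕ}, Representation ℂ G (Fin n → ℂ) → Module.End ℂ (Fin n → ℂ) :=
    fun ρ => theta φr (ρ.comp K.subtype) T
  have hf : ∀ {n : ℕ} (ρ : Representation ℂ G (Fin n → ℂ)), IsIrrCharacter G ρ.character →
      classInner (fun k : K => ρ.character k) (φ₀ : K → ℂ) ≠ 0 →
      ∃ f : ℂ, f ≠ 0 ∧ ∀ k : K,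
        Representation.character (ρ.comp K.subtype) k = f * φr.character k := fun ρ hρ hov =>
    ⟨_, hov, fun k => by
      rw [hφc]; exact congrFun (clifford_invariant K hρ φ₀.2 hov hg) k⟩
  have hparity : ∀ {n : ℕ} (ρ : Representation ℂ G (Fin n → ℂ)), IsIrrCharacter G ρ.character →
      classInner (fun k : K => ρ.character k) (φ₀ : K → ℂ) ≠ 0 → IsParity ρ H (TT ρ) := by
    intro n ρ hρ hov
    obtain ⟨f, -, hfk⟩ := hf ρ hρ hov
    refine ⟨by rw [← theta_mul φr _ hfk, hT2, theta_one φr _ hfk], fun h hh => ?_⟩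
    obtain ⟨l, hl, c, hc, rfl⟩ := (D.memH h).1 hh
    have e1 : ρ l * TT ρ = TT ρ * ρ l := by
      rw [show ρ l = theta φr (ρ.comp K.subtype) (φr ⟨l, D.leK hl⟩) from
        (theta_rep φr (ρ.comp K.subtype) hfk ⟨l, D.leK hl⟩).symm, ← theta_mul φr _ hfk,
        ← theta_mul φr _ hfk,
        hTL ⟨l, D.leK hl⟩ hl]
    have e2 : ρ c * TT ρ = TT ρ * ρ c := by
      obtain ⟨τ, hτ, hτT⟩ := hTc c hc
      have h1 : (LinearMap.mulLeft ℂ (ρ c)).comp ((LinearMap.mulRight ℂ (ρ c⁻¹)).comp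
          (theta φr (ρ.comp K.subtype))) = (theta φr (ρ.comp K.subtype)).comp (sig τ) :=
        linear_ext φr fun k => by
          simp only [LinearMap.comp_apply, LinearMap.mulLeft_apply, LinearMap.mulRight_apply,
            sig_rep, theta_rep φr _ hfk]
          show ρ c * (ρ (k : G) * ρ c⁻¹) = ρ (((τ : MulAut K) k : K) : G)
          rw [hτ, map_mul, map_mul, mul_assoc]
      have h2 := LinearMap.congr_fun h1 T
      simp only [LinearMap.comp_apply, LinearMap.mulLeft_apply, LinearMap.mulRight_apply,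
        hτT] at h2
      show ρ c * TT ρ = TT ρ * ρ c
      conv_rhs => rw [show TT ρ = ρ c * (TT ρ * ρ c⁻¹) from h2.symm, mul_assoc, mul_assoc,
        ← map_mul, inv_mul_cancel, map_one, mul_one]
    rw [map_mul, mul_assoc, e2, ← mul_assoc, e1, mul_assoc]
  have hcompat : ∀ {n n' : ℕ} (ρ : Representation ℂ G (Fin n → ℂ))
      (ρ' : Representation ℂ G (Fin n' → ℂ)), IsIrrCharacter G ρ.character →
      IsIrrCharacter G ρ'.character →
      classInner (fun k : K => ρ.character k) (φ₀ : K → ℂ) ≠ 0 →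
      classInner (fun k : K => ρ'.character k) (φ₀ : K → ℂ) ≠ 0 →
      Compatible ρ ρ' K L (TT ρ) (TT ρ') := by
    intro n n' ρ ρ' hρ hρ' hov hov' w hw
    obtain ⟨c, hc⟩ := (Submodule.mem_span_range_iff_exists_fun ℂ).1 (hTk ⟨w, hw⟩)
    let ee : L' ≃ L := (Subgroup.subgroupOfEquivOfLe D.leK).toEquiv
    refine ⟨fun l => c (ee.symm l), ?_, ?_⟩
    all_goals
      first
      | (obtain ⟨f, -, hfk⟩ := hf ρ hρ hov
         have h1 := congrArg (theta φr (ρ.comp K.subtype)) hc
         simp only [map_sum, map_smul, theta_mul φr _ hfk, theta_rep φr _ hfk] at h1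
         refine Eq.trans h1.symm (Fintype.sum_equiv ee _ _ fun l => ?_)
         simp only [Equiv.symm_apply_apply]
         rfl)
      | (obtain ⟨f, -, hfk⟩ := hf ρ' hρ' hov'
         have h1 := congrArg (theta φr (ρ'.comp K.subtype)) hc
         simp only [map_sum, map_smul, theta_mul φr _ hfk, theta_rep φr _ hfk] at h1
         refine Eq.trans h1.symm (Fintype.sum_equiv ee _ _ fun l => ?_)
         simp only [Equiv.symm_apply_apply]
         rfl)
  have key : ∀ χ : IrrCharacter G,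
      classInner (fun k : K => (χ : G → ℂ) k) (φ₀ : K → ℂ) ≠ 0 →
      ∃ ψ : IrrCharacter H, ∃ (n : ℕ) (ρ : Representation ℂ G (Fin n → ℂ)) (ε : ℤ),
        ρ.IsIrreducible ∧ ρ.character = (χ : G → ℂ) ∧ (ε = 1 ∨ ε = -1) ∧
        signedFn ρ H (TT ρ) = (ε : ℂ) • (ψ : H → ℂ) ∧
        ∀ (η : IrrCharacter H) (m : ℕ),
          classInner (fun h : H => (χ : G → ℂ) h) (η : H → ℂ) = m → (Odd m ↔ η = ψ) := by
    intro χ hov
    obtain ⟨n, ρ, hρ, hρc⟩ := χ.2
    haveI := hρ
    have hirr : IsIrrCharacter G ρ.character := hρc ▸ χ.2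
    have hov' : classInner (fun k : K => ρ.character k) (φ₀ : K → ℂ) ≠ 0 := hρc ▸ hov
    obtain ⟨ψ, ε, hε, hs, hodd⟩ := exists_signed D.split (hparity ρ hirr hov')
      (hcompat ρ ρ hirr hirr hov' hov')
    exact ⟨ψ, n, ρ, ε, hρ, hρc, hε, hs, fun η m hm => hodd η m (by rw [hρc]; exact hm)⟩
  haveI : Nonempty (IrrCharacter H) := ⟨⟨_, isIrrCharacter_one⟩⟩
  let F : IrrCharacter G → IrrCharacter H := fun χ =>
    if h : classInner (fun k : K => (χ : G → ℂ) k) (φ₀ : K → ℂ) ≠ 0 then (key χ h).choose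
    else Classical.arbitrary _
  refine ⟨e, F, he0, he1, fun χ hov => ?_⟩
  have hF : ∀ (χ : IrrCharacter G) (h : classInner (fun k : K => (χ : G → ℂ) k) (φ₀ : K → ℂ) ≠ 0),
      F χ = (key χ h).choose := fun χ h => dif_pos h
  obtain ⟨n, ρ, ε, hρ, hρc, hε, hs, hoddm⟩ := (key χ hov).choose_spec
  rw [← hF χ hov] at hs hoddm
  haveI := hρ
  have hirr : IsIrrCharacter G ρ.character := hρc ▸ χ.2
  have hov' : classInner (fun k : K => ρ.character k) (φ₀ : K → ℂ) ≠ 0 := hρc ▸ hov
  obtain ⟨f, hf0, hfk⟩ := hf ρ hirr hov'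
  have hresL : ∀ l : L, (χ : G → ℂ) l = f * e * θ l := fun l => by
    have h1 := hfk ⟨l, D.leK l.2⟩
    have h2 := he ⟨⟨l, D.leK l.2⟩, l.2⟩
    rw [hθc] at h2
    rw [show φr.character ⟨l, D.leK l.2⟩ = e * θ l from h2, ← mul_assoc] at h1
    rw [← hρc]
    exact h1
  have hχL : classInner (fun l : L => (χ : G → ℂ) l) θ ≠ 0 := by
    rw [show (fun l : L => (χ : G → ℂ) l) = (f * e) • θ from funext hresL, classInner_smul_left,
      classInner_irr_self hθ, mul_one]
    exact mul_ne_zero hf0 he0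
  refine ⟨hχL, ?_, ?_, hoddm, fun χ' hov2 hFF => ?_⟩
  · obtain ⟨m, hm⟩ := classInner_char_nat (isCharacter_restrict (isCharacter_of_irr χ.2) H)
      (isCharacter_of_irr (F χ).2)
    have hodd' := (hoddm _ m hm).2 rfl
    have hne : classInner (fun h : H => (χ : G → ℂ) h) (F χ : H → ℂ) ≠ 0 := by
      rw [hm]; exact Nat.cast_ne_zero.2 hodd'.pos.ne'
    have hc := isCharacter_comp (isCharacter_of_irr (F χ).2) (Subgroup.inclusion D.leH)
    obtain ⟨η, hη, hηne⟩ := exists_constituent hc fun h0 => irr_ne_zero (F χ).2 (congrFun h0 1)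
    have h3 := CfsgLib.FullyRamified.inner_comp_ne_zero (Subgroup.inclusion D.leH)
      (isCharacter_restrict (isCharacter_of_irr χ.2) H) (F χ).2 hne hη hηne
    rw [show (fun l : L => (χ : G → ℂ) ((Subgroup.inclusion D.leH l : H) : G)) = (f * e) • θ from
      funext hresL, classInner_smul_left] at h3
    have : θ = η := by
      by_contra h4
      exact h3 (by rw [classInner_irr_ne hθ hη h4, mul_zero])
    rw [this]
    exact hηne
  · have h1 : (ε : ℂ) * (F χ : H → ℂ) 1 = f * LinearMap.trace ℂ _ T := by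
      have := congrFun hs 1
      rw [signedFn, OneMemClass.coe_one, map_one, one_mul, trace_theta φr _ hfk] at this
      exact this.symm
    have h2 : (χ : G → ℂ) 1 = f * (d : ℂ) := by
      have := hfk 1
      rw [Representation.char_one, Representation.char_one] at this
      rw [← hρc, Representation.char_one]
      simpa using this
    have hε2 : (ε : ℂ) * (ε : ℂ) = 1 := by rcases hε with rfl | rfl <;> simp
    rw [h2, ← hTtr]
    have h1' : f * LinearMap.trace ℂ _ T * (f * LinearMap.trace ℂ _ T) =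
        (ε : ℂ) * (F χ : H → ℂ) 1 * ((ε : ℂ) * (F χ : H → ℂ) 1) := by rw [h1]
    linear_combination (e * e * (F χ : H → ℂ) 1 * (F χ : H → ℂ) 1) * hε2 + (e * e) * h1'
  · by_contra hne
    obtain ⟨n', ρ', ε', hρ', hρc', hε', hs', -⟩ := (key χ' hov2).choose_spec
    rw [← hF χ' hov2, ← hFF] at hs'
    haveI := hρ'
    have hirr' : IsIrrCharacter G ρ'.character := hρc' ▸ χ'.2
    have hov2' : classInner (fun k : K => ρ'.character k) (φ₀ : K → ℂ) ≠ 0 := hρc' ▸ hov2
    have h0 := classInner_signed_ne D.split (hparity ρ hirr hov') (hparity ρ' hirr' hov2')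
      (hcompat ρ ρ' hirr hirr' hov' hov2')
      (fun h => hne (Subtype.ext (by rw [← hρc, h, hρc'])))
    rw [hs, hs', classInner_smul_left, classInner_smul_right, classInner_irr_self (F χ).2] at h0
    rcases hε with rfl | rfl <;> rcases hε' with rfl | rfl <;> simp at h0

/-- The correspondence for a section without fixed points. -/
theorem correspondence (D : Setup φS K L H) {θ : L → ℂ} (hθ : IsIrrCharacter L θ)
    (hG : ∀ g : G, conjNormFun L g θ = θ) (hS : InvOn φS L θ) :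
    (∀ χ : IrrCharacter G, Inv φS (χ : G → ℂ) →
      classInner (fun l : L => (χ : G → ℂ) l) θ ≠ 0 →
      ∃ ψ : IrrCharacter H, InvOn φS H (ψ : H → ℂ) ∧
        classInner (fun l : L => (ψ : H → ℂ) ⟨l, D.leH l.2⟩) θ ≠ 0 ∧
        ∀ (η : IrrCharacter H) (m : ℕ),
          classInner (fun h : H => (χ : G → ℂ) h) (η : H → ℂ) = m → (Odd m ↔ η = ψ)) ∧
    (∀ χ χ' : IrrCharacter G, Inv φS (χ : G → ℂ) → Inv φS (χ' : G → ℂ) →
      classInner (fun l : L => (χ : G → ℂ) l) θ ≠ 0 →
      classInner (fun l : L => (χ' : G → ℂ) l) θ ≠ 0 →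
      ∀ (ψ : IrrCharacter H) (m m' : ℕ),
        classInner (fun h : H => (χ : G → ℂ) h) (ψ : H → ℂ) = m → Odd m →
        classInner (fun h : H => (χ' : G → ℂ) h) (ψ : H → ℂ) = m' → Odd m' → χ = χ') ∧
    (∀ ψ : IrrCharacter H, InvOn φS H (ψ : H → ℂ) →
      classInner (fun l : L => (ψ : H → ℂ) ⟨l, D.leH l.2⟩) θ ≠ 0 →
      ∃ χ : IrrCharacter G, Inv φS (χ : G → ℂ) ∧
        classInner (fun l : L => (χ : G → ℂ) l) θ ≠ 0 ∧
        ∃ m : ℕ, classInner (fun h : H => (χ : G → ℂ) h) (ψ : H → ℂ) = m ∧ Odd m) := by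
  classical
  obtain ⟨φ₀, hi, hg, hover⟩ := D.exists_phi hθ hG hS
  obtain ⟨e, F, he0, he1, hF⟩ := D.exists_map hθ hG φ₀ hi hg hover
  let ovr : IrrCharacter G → Prop := fun χ =>
    classInner (fun k : K => (χ : G → ℂ) k) (φ₀ : K → ℂ) ≠ 0
  have hlie : ∀ χ : IrrCharacter G, Inv φS (χ : G → ℂ) →
      classInner (fun l : L => (χ : G → ℂ) l) θ ≠ 0 → ovr χ := fun χ hχ h =>
    D.over_phi hθ hG hi hover χ.2 hχ h
  -- transport of multiplicities along the operators
  let res := restrictHom φS H D.stabH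
  let tw : S → IrrCharacter H → IrrCharacter H := fun s ψ =>
    ⟨_, isIrrCharacter_comp_surjective ψ.2 (res s).toMonoidHom (res s).surjective⟩
  have htw : ∀ (f : G → ℂ) (ψ : IrrCharacter H) (s : S),
      classInner (fun h : H => f (φS s h)) (tw s ψ : H → ℂ) =
        classInner (fun h : H => f h) (ψ : H → ℂ) := fun f ψ s =>
    CfsgLib.FullyRamified.classInner_equiv (res s) (fun h : H => f h) (ψ : H → ℂ)
  refine ⟨fun χ hχ hχθ => ?_, fun χ χ' hχ hχ' hθ1 hθ2 ψ m m' hm hmo hm' hmo' => ?_,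
    fun ψ hψ hψθ => ?_⟩
  · have hov := hlie χ hχ hχθ
    obtain ⟨-, hψθ, -, hodd, -⟩ := hF χ hov
    refine ⟨F χ, fun s x y hxy => ?_, hψθ, hodd⟩
    obtain ⟨m, hm⟩ := classInner_char_nat (isCharacter_restrict (isCharacter_of_irr χ.2) H)
      (isCharacter_of_irr (F χ).2)
    have h := htw (χ : G → ℂ) (F χ) s
    rw [show (fun h : H => (χ : G → ℂ) (φS s h)) = fun h : H => (χ : G → ℂ) h from
      funext fun h => hχ s h, hm] at h
    have h2 := (hodd _ m h).1 ((hodd _ m hm).2 rfl)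
    rw [show y = res s x from Subtype.ext hxy]
    exact congrArg (fun z : IrrCharacter H => (z : H → ℂ) x) h2
  · have h1 := hlie χ hχ hθ1
    have h2 := hlie χ' hχ' hθ2
    exact (hF χ h1).2.2.2.2 χ' h2
      ((((hF χ h1).2.2.2.1 ψ m hm).1 hmo).symm.trans (((hF χ' h2).2.2.2.1 ψ m' hm').1 hmo'))
  · -- the map is onto by counting degrees
    set s₁ := Finset.univ.filter ovr with hs₁
    set θH : L.subgroupOf H → ℂ := fun x => θ ⟨((x : H) : G), Subgroup.mem_subgroupOf.mp x.2⟩
      with hθH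
    haveI := Fintype.ofFinite (L.subgroupOf H)
    set s₂ := Finset.univ.filter fun η : IrrCharacter H =>
      classInner (fun l : L => (η : H → ℂ) ⟨l, D.leH l.2⟩) θ ≠ 0 with hs₂
    have hsum₁ := sum_sq_over K φ₀.2 hg s₁ fun χ => by simp [hs₁, ovr]
    have hsum₂ := sum_sq_over (L.subgroupOf H) (isIrr_subgroupOf L D.leH hθ)
      (fun g => funext fun x => congrFun (hG (g : G))
        ⟨((x : H) : G), Subgroup.mem_subgroupOf.mp x.2⟩) s₂ fun η => by
        rw [classInner_subgroupOf L D.leH (η : H → ℂ) θ]; simp [hs₂]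
    have hinj : Set.InjOn F s₁ := fun a ha b hb hab =>
      (hF a (Finset.mem_filter.1 ha).2).2.2.2.2 b (Finset.mem_filter.1 hb).2 hab
    have hsub : s₁.image F ⊆ s₂ := fun η hη => by
      obtain ⟨χ, hχ, rfl⟩ := Finset.mem_image.1 hη
      exact Finset.mem_filter.2 ⟨Finset.mem_univ _, (hF χ (Finset.mem_filter.1 hχ).2).2.1⟩
    have hidx : (K.index : ℂ) = ((L.subgroupOf H).index : ℂ) := by
      have h1 := card_split D.split
      have h2 : (L.subgroupOf H).index * Nat.card L = Nat.card H := by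
        rw [← (L.subgroupOf H).index_mul_card,
          Nat.card_congr (Subgroup.subgroupOfEquivOfLe D.leH).toEquiv]
      rw [← K.index_mul_card, ← h2, Nat.cast_mul, Nat.cast_mul] at h1
      refine mul_left_cancel₀ (mul_ne_zero (Nat.cast_ne_zero.2 (Nat.card_pos (α := K)).ne')
        (Nat.cast_ne_zero.2 (Nat.card_pos (α := L)).ne')) ?_
      linear_combination -h1
    have hval : ∑ η ∈ s₁.image F, (η : H → ℂ) 1 * (η : H → ℂ) 1 =
        ∑ η ∈ s₂, (η : H → ℂ) 1 * (η : H → ℂ) 1 := by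
      rw [Finset.sum_image hinj, hsum₂]
      refine mul_left_cancel₀ (mul_ne_zero he0 he0) ?_
      rw [Finset.mul_sum, Finset.sum_congr rfl fun χ hχ =>
        ((hF χ (Finset.mem_filter.1 hχ).2).2.2.1).symm, hsum₁, he1, hidx]
      show _ = e * e * (((L.subgroupOf H).index : ℂ) * (θ 1 * θ 1))
      ring
    have hψ2 : ψ ∈ s₁.image F := by
      by_contra hnot
      choose d hd0 hd using fun η : IrrCharacter H => irr_degree_pos η.2
      simp only [hd] at hval
      simp only [← Nat.cast_mul, ← Nat.cast_sum, Nat.cast_inj] at hval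
      exact (Finset.sum_lt_sum_of_subset hsub (Finset.mem_filter.2 ⟨Finset.mem_univ _, hψθ⟩)
        hnot (Nat.mul_pos (hd0 ψ) (hd0 ψ)) fun η _ _ => Nat.zero_le _).ne hval
    obtain ⟨χ, hχ, hFχ⟩ := Finset.mem_image.1 hψ2
    have hov : ovr χ := (Finset.mem_filter.1 hχ).2
    obtain ⟨hχθ, -, -, hodd, hinjF⟩ := hF χ hov
    obtain ⟨m, hm⟩ := classInner_char_nat (isCharacter_restrict (isCharacter_of_irr χ.2) H)
      (isCharacter_of_irr ψ.2)
    have hmo := (hodd ψ m hm).2 hFχ.symm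
    refine ⟨χ, fun s g => ?_, hχθ, m, hm, hmo⟩
    let χs : IrrCharacter G :=
      ⟨_, isIrrCharacter_comp_surjective χ.2 (φS s).toMonoidHom (φS s).surjective⟩
    have hovs : ovr χs := by
      show classInner (fun k : K => (χ : G → ℂ) (φS s k)) (φ₀ : K → ℂ) ≠ 0
      rw [show (φ₀ : K → ℂ) = fun k => (φ₀ : K → ℂ) (D.onK s k) from
        funext fun k => (hi s k _ rfl).symm]
      exact (CfsgLib.FullyRamified.classInner_equiv (D.onK s) (fun k : K => (χ : G → ℂ) k)
        (φ₀ : K → ℂ)).trans_ne hov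
    have h := htw (χ : G → ℂ) ψ s
    rw [show tw s ψ = ψ from Subtype.ext (funext fun x => hψ s x _ rfl), hm] at h
    have h2 : ψ = F χs := ((hF χs hovs).2.2.2.1 ψ m h).1 hmo
    have h3 := hinjF χs hovs (hFχ.trans h2)
    exact (congrArg (fun z : IrrCharacter G => (z : G → ℂ) g) h3).symm

end Setup

end CfsgLib.ParityCorr
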