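import Cfsg.Agent.Lib.CharTheory
import Cfsg.Agent.Lib.CharTheory.Schur

/-!
# Fourier inversion for an irreducible representation

An irreducible representation spans the endomorphism algebra; this gives a transfer map to any
representation whose character is a multiple of the irreducible one.
-/

namespace CfsgLib.ParityCorr

open Cfsg CfsgLib.CharTheory

set_option linter.unusedVariables false
set_option linter.unusedSectionVars false

universe u v w

variable {K : Type u} [Group K] [Fintype K]
variable {W : Type v} [AddCommGroup W] [Module ℂ W] [FiniteDimensional ℂ W]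
variable {V : Type w} [AddCommGroup V] [Module ℂ V] [FiniteDimensional ℂ V]

local notation "tr" => LinearMap.trace ℂ _

theorem trace_eq_sum_repr {ι : Type*} [Fintype ι] [DecidableEq ι] (b : Module.Basis ι ℂ W)
    (f : Module.End ℂ W) : LinearMap.trace ℂ W f = ∑ i, b.repr (f (b i)) i := by
  rw [LinearMap.trace_eq_matrix_trace ℂ b, Matrix.trace]
  exact Finset.sum_congr rfl fun i _ => by rw [Matrix.diag_apply, LinearMap.toMatrix_apply]

theorem finrank_ne_zero_of_irr (φ : Representation ℂ K W) [φ.IsIrreducible] :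
    (Module.finrank ℂ W : ℂ) ≠ 0 := by
  have hne : Nontrivial W := by
    by_contra hs
    rw [not_nontrivial_iff_subsingleton] at hs
    exact bot_ne_top (α := Subrepresentation φ)
      (Subrepresentation.toSubmodule_injective (Subsingleton.elim _ _))
  exact Nat.cast_ne_zero.mpr Module.finrank_pos.ne'

theorem card_ne_zero' : (Nat.card K : ℂ) ≠ 0 := Nat.cast_ne_zero.mpr Nat.card_pos.ne'

theorem rank_one_avg (φ : Representation ℂ K W) [φ.IsIrreducible] (η : W →ₗ[ℂ] ℂ) (w v : W) :
    ∑ g : K, η (φ g⁻¹ v) • φ g w =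
      ((Nat.card K : ℂ) * η w / (Module.finrank ℂ W : ℂ)) • v := by
  set X : Module.End ℂ W := η.smulRight w with hX
  have hcomm : ∀ k : K, (∑ g : K, φ g * X * φ g⁻¹) * φ k = φ k * ∑ g : K, φ g * X * φ g⁻¹ := by
    intro k
    rw [Finset.sum_mul, Finset.mul_sum]
    refine (Fintype.sum_equiv (Equiv.mulLeft k) _ _ fun g => ?_).symm
    simp only [Equiv.coe_mulLeft]
    rw [mul_assoc (φ (k * g) * X), ← map_mul, show (k * g)⁻¹ * k = g⁻¹ by group, map_mul]
    simp only [mul_assoc]
  have h := eq_smul_id_of_commute φ (∑ g : K, φ g * X * φ g⁻¹) hcomm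
  have htr : LinearMap.trace ℂ W (∑ g : K, φ g * X * φ g⁻¹) = (Nat.card K : ℂ) * η w := by
    rw [map_sum, Finset.sum_congr rfl fun g _ => show LinearMap.trace ℂ W (φ g * X * φ g⁻¹) = η w by
      rw [LinearMap.trace_mul_comm, ← mul_assoc, ← map_mul, inv_mul_cancel, map_one, one_mul,
        hX, LinearMap.trace_smulRight],
      Finset.sum_const, Finset.card_univ, nsmul_eq_mul, Nat.card_eq_fintype_card]
  rw [htr] at h
  have h2 := LinearMap.congr_fun h v
  simp only [LinearMap.sum_apply, Module.End.mul_apply, hX, LinearMap.smulRight_apply,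
    map_smul, LinearMap.smul_apply, Module.End.one_apply] at h2
  exact h2

/-- Fourier inversion. -/
theorem fourier (φ : Representation ℂ K W) [φ.IsIrreducible] (M : Module.End ℂ W) :
    M = ((Module.finrank ℂ W : ℂ) / Nat.card K) •
      ∑ g : K, LinearMap.trace ℂ W (M * φ g⁻¹) • φ g := by
  classical
  set b := Module.finBasis ℂ W
  refine LinearMap.ext fun v => ?_
  simp only [LinearMap.smul_apply, LinearMap.sum_apply, trace_eq_sum_repr b, Finset.sum_smul]
  rw [Finset.sum_comm, Finset.smul_sum]
  conv_lhs => rw [← b.sum_repr (M v)]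
  refine Finset.sum_congr rfl fun i _ => ?_
  have h := rank_one_avg φ ((b.coord i).comp M) v (b i)
  simp only [LinearMap.comp_apply, Module.Basis.coord_apply] at h
  simp only [Module.End.mul_apply]
  rw [h, smul_smul]
  congr 1
  field_simp [finrank_ne_zero_of_irr φ, card_ne_zero' (K := K)]

/-- Linear maps out of the endomorphism algebra are determined on the representation. -/
theorem linear_ext (φ : Representation ℂ K W) [φ.IsIrreducible] {X : Type*} [AddCommGroup X]
    [Module ℂ X] {f g : Module.End ℂ W →ₗ[ℂ] X} (h : ∀ k, f (φ k) = g (φ k)) : f = g := by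
  refine LinearMap.ext fun M => ?_
  rw [fourier φ M]
  simp only [map_smul, map_sum, h]

/-- Transfer of endomorphisms along representations. -/
noncomputable def theta (φ : Representation ℂ K W) (ρ : Representation ℂ K V) :
    Module.End ℂ W →ₗ[ℂ] Module.End ℂ V where
  toFun M := ((Module.finrank ℂ W : ℂ) / Nat.card K) •
    ∑ g : K, LinearMap.trace ℂ W (M * φ g⁻¹) • ρ g
  map_add' M N := by
    simp only [add_mul, map_add, add_smul, Finset.sum_add_distrib, smul_add]
  map_smul' c M := by
    simp only [smul_mul_assoc, map_smul, smul_eq_mul, mul_smul, ← Finset.smul_sum,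
      RingHom.id_apply]
    exact smul_comm _ _ _

theorem theta_apply (φ : Representation ℂ K W) (ρ : Representation ℂ K V) (M : Module.End ℂ W) :
    theta φ ρ M = ((Module.finrank ℂ W : ℂ) / Nat.card K) •
      ∑ g : K, LinearMap.trace ℂ W (M * φ g⁻¹) • ρ g := rfl

theorem theta_self (φ : Representation ℂ K W) [φ.IsIrreducible] (M : Module.End ℂ W) :
    theta φ φ M = M := (fourier φ M).symm

theorem eq_zero_of_idem_trace {P : Module.End ℂ V} (hP : P * P = P)
    (ht : LinearMap.trace ℂ V P = 0) : P = 0 := by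
  rw [(LinearMap.IsIdempotentElem.isProj_range P hP).trace, Nat.cast_eq_zero] at ht
  exact LinearMap.range_eq_bot.1 (Submodule.finrank_eq_zero.1 ht)

variable (φ : Representation ℂ K W) [φ.IsIrreducible] (ρ : Representation ℂ K V)

theorem theta_rep_eq (k : K) : theta φ ρ (φ k) = theta φ ρ 1 * ρ k := by
  rw [theta_apply, theta_apply, smul_mul_assoc, Finset.sum_mul]
  congr 1
  refine (Fintype.sum_equiv (Equiv.mulRight k) _ _ fun g => ?_).symm
  simp only [Equiv.coe_mulRight, smul_mul_assoc, ← map_mul, mul_inv_rev, one_mul,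
    mul_inv_cancel_left]

theorem trace_theta_one {f : ℂ} (hf : ∀ k, ρ.character k = f * φ.character k) :
    LinearMap.trace ℂ V (theta φ ρ 1) = f * (Module.finrank ℂ W : ℂ) := by
  have h := congrArg (LinearMap.trace ℂ W) (fourier φ 1)
  simp only [LinearMap.trace_one, map_smul, map_sum, one_mul, smul_eq_mul] at h
  conv_rhs => rw [h]
  rw [theta_apply, map_smul, map_sum, smul_eq_mul, ← mul_assoc, mul_comm f, mul_assoc]
  congr 1
  rw [Finset.mul_sum]
  refine Finset.sum_congr rfl fun g _ => ?_
  rw [map_smul, smul_eq_mul, one_mul]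
  show LinearMap.trace ℂ W (φ g⁻¹) * ρ.character g = f * (_ * φ.character g)
  rw [hf]
  ring

theorem theta_one {f : ℂ} (hf : ∀ k, ρ.character k = f * φ.character k) : theta φ ρ 1 = 1 := by
  have hidem : theta φ ρ 1 * theta φ ρ 1 = theta φ ρ 1 := by
    conv_lhs =>
      arg 2
      rw [theta_apply]
    conv_rhs => rw [fourier φ 1]
    simp only [mul_smul_comm, Finset.mul_sum, map_smul, map_sum, one_mul, theta_rep_eq]
  have hP : (1 - theta φ ρ 1) * (1 - theta φ ρ 1) = 1 - theta φ ρ 1 := by
    rw [sub_mul, one_mul, mul_sub, mul_one, hidem]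
    simp
  have ht : LinearMap.trace ℂ V (1 - theta φ ρ 1) = 0 := by
    rw [map_sub, LinearMap.trace_one, trace_theta_one φ ρ hf, sub_eq_zero]
    have h1 := hf 1
    simp only [Representation.character, map_one, LinearMap.trace_one] at h1
    exact h1
  exact (sub_eq_zero.1 (eq_zero_of_idem_trace hP ht)).symm

theorem theta_rep {f : ℂ} (hf : ∀ k, ρ.character k = f * φ.character k) (k : K) :
    theta φ ρ (φ k) = ρ k := by
  rw [theta_rep_eq, theta_one φ ρ hf, one_mul]

theorem theta_mul {f : ℂ} (hf : ∀ k, ρ.character k = f * φ.character k) (M N : Module.End ℂ W) :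
    theta φ ρ (M * N) = theta φ ρ M * theta φ ρ N := by
  have h1 : ∀ k, (theta φ ρ).comp (LinearMap.mulRight ℂ N) (φ k) =
      (LinearMap.mulRight ℂ (theta φ ρ N)).comp (theta φ ρ) (φ k) := by
    intro k
    have h2 : (theta φ ρ).comp (LinearMap.mulLeft ℂ (φ k)) =
        (LinearMap.mulLeft ℂ (ρ k)).comp (theta φ ρ) := linear_ext φ fun l => by
      simp only [LinearMap.comp_apply, LinearMap.mulLeft_apply, ← map_mul,
        theta_rep φ ρ hf]
    have h3 := LinearMap.congr_fun h2 N
    simp only [LinearMap.comp_apply, LinearMap.mulLeft_apply] at h3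
    simp only [LinearMap.comp_apply, LinearMap.mulRight_apply, theta_rep φ ρ hf, h3]
  have := LinearMap.congr_fun (linear_ext φ h1) M
  simpa using this

theorem trace_theta {f : ℂ} (hf : ∀ k, ρ.character k = f * φ.character k) (M : Module.End ℂ W) :
    LinearMap.trace ℂ V (theta φ ρ M) = f * LinearMap.trace ℂ W M := by
  have h : (LinearMap.trace ℂ V).comp (theta φ ρ) = f • LinearMap.trace ℂ W :=
    linear_ext φ fun k => by
      simp only [LinearMap.comp_apply, theta_rep φ ρ hf, LinearMap.smul_apply, smul_eq_mul]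
      exact hf k
  exact LinearMap.congr_fun h M

omit [φ.IsIrreducible] in
/-- Schur orthogonality for one representation. -/
theorem sum_trace_mul_trace [ρ.IsIrreducible] (A B : Module.End ℂ V) :
    ∑ g : K, LinearMap.trace ℂ V (A * ρ g) * LinearMap.trace ℂ V (ρ g⁻¹ * B) =
      (Nat.card K : ℂ) / (Module.finrank ℂ V : ℂ) * LinearMap.trace ℂ V (A * B) := by
  conv_rhs => rw [fourier ρ B]
  simp only [mul_smul_comm, Finset.mul_sum, map_smul, map_sum, smul_eq_mul]
  refine Finset.sum_congr rfl fun g _ => ?_
  rw [LinearMap.trace_mul_comm ℂ (ρ g⁻¹) B]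
  field_simp [finrank_ne_zero_of_irr ρ, card_ne_zero' (K := K)]

/-- Schur orthogonality for two representations. -/
theorem sum_trace_mul_trace_ne [ρ.IsIrreducible]
    (horth : ∑ g : K, φ.character g⁻¹ * ρ.character g = 0) (A : Module.End ℂ V)
    (B : Module.End ℂ W) :
    ∑ g : K, LinearMap.trace ℂ V (A * ρ g) * LinearMap.trace ℂ W (φ g⁻¹ * B) = 0 := by
  have hQ : theta φ ρ 1 = 0 := by
    have hcl : IsClassFunction K fun g => φ.character g⁻¹ := fun a b => by
      show φ.character (b * a * b⁻¹)⁻¹ = φ.character a⁻¹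
      rw [mul_inv_rev, mul_inv_rev, inv_inv, ← mul_assoc]
      exact isClassFunction_char (isCharacter_character φ) a⁻¹ b
    rw [theta_apply]
    simp only [one_mul]
    rw [show (∑ g : K, LinearMap.trace ℂ W (φ g⁻¹) • ρ g) = ∑ g : K, φ.character g⁻¹ • ρ g from rfl,
      sum_smul_eq_smul_one ρ hcl, horth, zero_div, zero_smul, smul_zero]
  have hall : ∀ M, theta φ ρ M = 0 := fun M =>
    LinearMap.congr_fun (linear_ext φ (f := theta φ ρ) (g := 0) fun k => by
      rw [theta_rep_eq, hQ, zero_mul, LinearMap.zero_apply]) M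
  have h := congrArg (fun X => LinearMap.trace ℂ V (A * X)) (hall B)
  simp only [theta_apply, mul_smul_comm, Finset.mul_sum, map_smul, map_sum, smul_eq_mul,
    mul_zero, map_zero] at h
  have hne : (Module.finrank ℂ W : ℂ) / Nat.card K ≠ 0 :=
    div_ne_zero (finrank_ne_zero_of_irr φ) card_ne_zero'
  rw [← Finset.mul_sum] at h
  rw [← (mul_eq_zero.1 h).resolve_left hne]
  exact Finset.sum_congr rfl fun g _ => by rw [LinearMap.trace_mul_comm ℂ (φ g⁻¹) B, mul_comm]

end CfsgLib.ParityCorr
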