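import Cfsg.Agent.Lib.ParityCorr.Invariant
import Mathlib.GroupTheory.SemidirectProduct

/-!
# Coprime operators: fixed elements in cosets and invariant constituents
-/

namespace CfsgLib.ParityCorr

open Cfsg CfsgLib.CharTheory CfsgLib.Glauberman
open scoped ComplexConjugate

set_option linter.unusedVariables false
set_option linter.unusedSectionVars false
set_option linter.style.haveILetI false

universe u w

variable {G : Type u} [Group G] [Fintype G] {S : Type w} [Group S] [Fintype S]
variable (φS : S →* MulAut G)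

/-- The elements fixed by the operators. -/
def fixedPts : Subgroup G where
  carrier := {g | ∀ s, φS s g = g}
  one_mem' := fun s => map_one _
  mul_mem' := fun hx hy s => by rw [map_mul, hx s, hy s]
  inv_mem' := fun hx s => by rw [map_inv, hx s]

/-- Fixed cosets contain fixed elements. -/
theorem lift_fixed (hcop : (Nat.card S).Coprime (Nat.card G)) (hsolv : Group.IsSolvable G)
    (K N : Subgroup G) (hNK : N ≤ K) (hKN : ∀ k ∈ K, ∀ n ∈ N, k * n * k⁻¹ ∈ N)
    (hK : ∀ s, ∀ x ∈ K, φS s x ∈ K) (hN : ∀ s, ∀ x ∈ N, φS s x ∈ N) {k : G} (hk : k ∈ K)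
    (h : ∀ s, k⁻¹ * φS s k ∈ N) :
    ∃ c ∈ K, (∀ s, φS s c = c) ∧ k⁻¹ * c ∈ N := by
  classical
  haveI : Finite (G ⋊[φS] S) := Finite.of_equiv _ SemidirectProduct.equivProd.symm
  set A : Subgroup (G ⋊[φS] S) := (SemidirectProduct.inr : S →* G ⋊[φS] S).range with hA
  let il : G →* G ⋊[φS] S := SemidirectProduct.inl
  have hnorm : ∀ M : Subgroup G, (∀ s, ∀ x ∈ M, φS s x ∈ M) →
      A ≤ Subgroup.normalizer ((M.map il : Subgroup (G ⋊[φS] S)) : Set (G ⋊[φS] S)) := by
    rintro M hM _ ⟨s, rfl⟩
    rw [Subgroup.mem_normalizer_iff]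
    intro x
    constructor
    · rintro ⟨y, hy, rfl⟩
      exact ⟨φS s y, hM s y hy, by rw [← map_inv]; exact SemidirectProduct.inl_aut s y⟩
    · rintro ⟨y, hy, hy'⟩
      refine ⟨φS s⁻¹ y, hM s⁻¹ y hy, ?_⟩
      rw [show il (φS s⁻¹ y) = SemidirectProduct.inr s⁻¹ * il y *
        SemidirectProduct.inr s⁻¹⁻¹ from SemidirectProduct.inl_aut s⁻¹ y, hy', inv_inv, map_inv]
      group
  have hKn : K.map il ≤
      Subgroup.normalizer ((N.map il : Subgroup (G ⋊[φS] S)) : Set (G ⋊[φS] S)) := by
    rintro _ ⟨a, ha, rfl⟩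
    rw [Subgroup.mem_normalizer_iff]
    intro x
    constructor
    · rintro ⟨y, hy, rfl⟩
      exact ⟨a * y * a⁻¹, hKN a ha y hy, by simp⟩
    · rintro ⟨y, hy, hy'⟩
      refine ⟨a⁻¹ * y * a, by simpa using hKN a⁻¹ (K.inv_mem ha) y hy, ?_⟩
      rw [map_mul, map_mul, map_inv, hy']
      group
  obtain ⟨c', hc', hkc⟩ := coprime_fixed_quotient (A := A) (K := K.map il) (N := N.map il)
    (hnorm K hK)
    (by
      rw [Subgroup.card_map_of_injective SemidirectProduct.inl_injective, hA,
        ← Nat.card_congr (MonoidHom.ofInjective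
          (SemidirectProduct.inr_injective (φ := φS))).toEquiv]
      exact hcop.coprime_dvd_right (Subgroup.card_subgroup_dvd_card K))
    (Or.inr (haveI : Group.IsSolvable G := hsolv; haveI : Group.IsSolvable K := inferInstance
      Group.isSolvable_of_surjective (f := (K.equivMapOfInjective il
        SemidirectProduct.inl_injective).toMonoidHom) (MulEquiv.surjective _)))
    (Subgroup.map_mono hNK) hKn (hnorm N hN) (Subgroup.mem_map_of_mem il hk) (by
      rintro _ ⟨s, rfl⟩
      refine ⟨φS s k * k⁻¹, ?_, ?_⟩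
      · have := hKN k hk _ (h s)
        rwa [mul_assoc, mul_assoc, mul_inv_cancel_left] at this
      · rw [map_mul, map_inv, show il (φS s k) = _ from SemidirectProduct.inl_aut s k, map_inv])
  obtain ⟨⟨c, hc, rfl⟩, hcA⟩ := hc'
  refine ⟨c, hc, fun s => ?_, ?_⟩
  · have := Subgroup.mem_centralizer_iff.1 hcA (SemidirectProduct.inr s) ⟨s, rfl⟩
    refine SemidirectProduct.inl_injective (φ := φS) ?_
    rw [SemidirectProduct.inl_aut, this, map_inv, mul_inv_cancel_right]
  · obtain ⟨n, hn, hn'⟩ := hkc
    rw [← map_inv, ← map_mul] at hn'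
    rwa [← SemidirectProduct.inl_injective hn']

/-- An invariant character has an invariant constituent on a stable normal subgroup. -/
theorem exists_inv_constituent (hcop : (Nat.card S).Coprime (Nat.card G))
    (hsolv : Group.IsSolvable G) (N : Subgroup G) [N.Normal] [Fintype N]
    (hN : ∀ s, ∀ x ∈ N, φS s x ∈ N) {χ : G → ℂ} (hχ : IsIrrCharacter G χ) (hi : Inv φS χ) :
    ∃ θ : IrrCharacter N, InvOn φS N (θ : N → ℂ) ∧
      classInner (fun n : N => χ n) (θ : N → ℂ) ≠ 0 := by
  classical
  obtain ⟨θ₁, hθ₁, hne₁⟩ := exists_constituent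
    (isCharacter_restrict (isCharacter_of_irr hχ) N) fun h0 => irr_ne_zero hχ (congrFun h0 1)
  haveI : Finite (G ⋊[φS] S) := Finite.of_equiv _ SemidirectProduct.equivProd.symm
  let il : G →* G ⋊[φS] S := SemidirectProduct.inl
  set N' := N.map il with hN'
  haveI hN'n : N'.Normal := ⟨by
    rintro _ ⟨n, hn, rfl⟩ x
    refine ⟨x.left * φS x.right n * x.left⁻¹,
      (inferInstance : N.Normal).conj_mem _ (hN _ n hn) x.left, ?_⟩
    rw [map_mul, map_mul, map_inv, show il (φS x.right n) = _ from
      SemidirectProduct.inl_aut x.right n, map_inv]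
    conv_rhs => rw [← SemidirectProduct.inl_left_mul_inr_right x]
    simp only [mul_inv_rev, mul_assoc]
    rfl⟩
  let em : N ≃* N' := N.equivMapOfInjective il SemidirectProduct.inl_injective
  let θ' : N' → ℂ := fun x => θ₁ (em.symm x)
  have hval : ∀ x : N', il (em.symm x : G) = x := fun x =>
    congrArg Subtype.val (em.apply_symm_apply x)
  have hconj : ∀ (g : G) (n : N),
      conjNormFun N' (il g) θ' (em n) = conjNormFun N g θ₁ n := fun g n => by
    show θ₁ (em.symm _) = θ₁ _
    refine congrArg θ₁ (em.injective ?_)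
    rw [em.apply_symm_apply]
    refine Subtype.ext ?_
    show il g * il (n : G) * (il g)⁻¹ = il (g * n * g⁻¹)
    simp
  have hconjS : ∀ (s : S) (n : N),
      conjNormFun N' (SemidirectProduct.inr s) θ' (em n) = θ₁ ⟨φS s n, hN s n n.2⟩ := fun s n => by
    show θ₁ (em.symm _) = θ₁ _
    refine congrArg θ₁ (em.injective ?_)
    rw [em.apply_symm_apply]
    refine Subtype.ext ?_
    show SemidirectProduct.inr s * il (n : G) * (SemidirectProduct.inr s)⁻¹ = il (φS s n)
    rw [← map_inv]
    exact (SemidirectProduct.inl_aut s (n : G)).symm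
  set Q : Subgroup (G ⋊[φS] S) := il.range with hQ
  haveI : Q.Normal := by
    rw [hQ, SemidirectProduct.range_inl_eq_ker_rightHom]; infer_instance
  set A : Subgroup (G ⋊[φS] S) := (SemidirectProduct.inr : S →* G ⋊[φS] S).range with hA
  set I := inertia N' θ' with hI
  have hQA : Q ⊔ A = ⊤ := eq_top_iff.2 fun x _ => by
    rw [← SemidirectProduct.inl_left_mul_inr_right x]
    exact Subgroup.mul_mem_sup ⟨_, rfl⟩ ⟨_, rfl⟩
  have hQI : Q ⊔ I = ⊤ := by
    refine eq_top_iff.2 (hQA ▸ sup_le le_sup_left ?_)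
    rintro _ ⟨s, rfl⟩
    have hirr : IsIrrCharacter N (fun n => θ₁ (restrictHom φS N hN s n)) :=
      isIrrCharacter_comp_surjective hθ₁ (restrictHom φS N hN s).toMonoidHom
        (restrictHom φS N hN s).surjective
    have hne : classInner (fun n : N => χ n) (fun n => θ₁ (restrictHom φS N hN s n)) ≠ 0 := by
      rw [show (fun n : N => χ n) = fun n : N => χ ((restrictHom φS N hN s n : N) : G) from
        funext fun n => (hi s n).symm]
      rw [CfsgLib.FullyRamified.classInner_equiv (restrictHom φS N hN s) (fun n : N => χ n) θ₁]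
      exact hne₁
    rw [clifford N hχ hθ₁ hne₁, classInner_smul_left, mul_ne_zero_iff, classInner_sum_left] at hne
    obtain ⟨ψ, hψ, hψne⟩ := Finset.exists_ne_zero_of_sum_ne_zero hne.2
    obtain ⟨g, rfl⟩ := (mem_conjOrbit N).1 hψ
    have hg : conjNormFun N g θ₁ = fun n => θ₁ (restrictHom φS N hN s n) := by
      by_contra h'
      exact hψne (classInner_irr_ne (isIrr_conjNormFun N g hθ₁) hirr h')
    have hmem : SemidirectProduct.inr s * (il g)⁻¹ ∈ I := by
      rw [hI, mem_inertia, conjNormFun_mul]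
      have : conjNormFun N' (SemidirectProduct.inr s) θ' = conjNormFun N' (il g) θ' := by
        funext x
        obtain ⟨n, rfl⟩ := em.surjective x
        rw [hconjS, hconj, hg]
        rfl
      rw [this, conjNormFun_inv]
    have h2 := (Q ⊔ I).mul_mem (Subgroup.mem_sup_right hmem)
      (Subgroup.mem_sup_left (show il g ∈ Q from ⟨g, rfl⟩))
    rwa [inv_mul_cancel_right] at h2
  obtain ⟨x, hx⟩ := Glauberman.Invariant.exists_conj_le Q A I (by
      rw [hQ, hA, ← Nat.card_congr (MonoidHom.ofInjective (f := il)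
          SemidirectProduct.inl_injective).toEquiv,
        ← Nat.card_congr (MonoidHom.ofInjective
          (SemidirectProduct.inr_injective (φ := φS))).toEquiv]
      exact hcop.symm) hQA hQI
    (Or.inl (haveI : Group.IsSolvable G := hsolv
      Group.isSolvable_of_surjective (f := il.rangeRestrict) il.rangeRestrict_surjective))
  have hfixed : ∀ s : S,
      il x.left * SemidirectProduct.inr s * (il x.left)⁻¹ ∈ I := fun s => by
    have h := hx (SemidirectProduct.inr (x.right⁻¹ * s * x.right)) ⟨_, rfl⟩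
    rw [show il x.left = x * (SemidirectProduct.inr x.right)⁻¹ from
      eq_mul_inv_of_mul_eq (SemidirectProduct.inl_left_mul_inr_right x)]
    rw [map_mul, map_mul, map_inv] at h
    simpa [mul_assoc] using h
  refine ⟨⟨_, isIrr_conjNormFun N x.left hθ₁⟩, fun s a b hab => ?_, ?_⟩
  · show conjNormFun N x.left θ₁ b = conjNormFun N x.left θ₁ a
    rw [← hconj, ← hconj]
    have h := conjNormFun_mul N' (il x.left * SemidirectProduct.inr s * (il x.left)⁻¹)
      (il x.left) θ'
    rw [(mem_inertia N').1 (hfixed s), inv_mul_cancel_right] at h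
    conv_rhs => rw [← h, conjNormFun_mul]
    generalize conjNormFun N' (il x.left) θ' = f
    refine congrArg f (Subtype.ext ?_)
    show il (b : G) = SemidirectProduct.inr s * il (a : G) * (SemidirectProduct.inr s)⁻¹
    rw [hab, ← map_inv]
    exact SemidirectProduct.inl_aut s (a : G)
  · rw [classInner_res_conjNormFun N x.left (isClassFunction_irr hχ)]
    exact hne₁

end CfsgLib.ParityCorr
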