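import Cfsg.Agent.Lib.ParityCorr.Core
import Cfsg.Agent.Lib.ParityCorr.Lifting

/-!
# Passing to the inertia group
-/

namespace CfsgLib.ParityCorr

open Cfsg CfsgLib.CharTheory CfsgLib.Glauberman
open scoped ComplexConjugate

set_option linter.unusedVariables false
set_option linter.unusedSectionVars false
set_option linter.style.haveILetI false

universe u w

variable {G : Type u} [Group G] [Fintype G] {S : Type w} [Group S] [Fintype S]

section General

variable (L : Subgroup G) [L.Normal] [Fintype L] {θ : L → ℂ} {T : Subgroup G} [Fintype T]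

/-- Multiplicities in the Clifford correspondence, on anything inside the inertia group. -/
theorem inner_corresp (hθ : IsIrrCharacter L θ) (hLT : L ≤ T) (hT : T = inertia L θ)
    {χ : G → ℂ} (hχ : IsIrrCharacter G χ) {ξ : T → ℂ} (hξ : IsIrrCharacter T ξ)
    (hξθ : classInner (fun n : L => ξ ⟨n, hLT n.2⟩) θ ≠ 0) (hind : indFun T ξ = χ)
    {A : Type u} [Group A] [Fintype A] (κ : A →* T) (ι : L →* A)
    (hι : ∀ n : L, κ (ι n) = ⟨n, hLT n.2⟩) {η : A → ℂ} (hη : IsIrrCharacter A η)
    (hηθ : classInner (fun n : L => η (ι n)) θ ≠ 0) :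
    classInner (fun a : A => χ (κ a : T)) η = classInner (fun a : A => ξ (κ a)) η := by
  have hres := isCharacter_restrict (isCharacter_of_irr hχ) T
  have hne : classInner (fun t : T => χ t) ξ ≠ 0 := by
    rw [← frobenius_reciprocity' T ξ (isClassFunction_irr hχ), hind, classInner_irr_self hχ]
    exact one_ne_zero
  have hR : IsCharacter A (fun a => χ (κ a : T) - ξ (κ a)) :=
    isCharacter_comp (isCharacter_sub_irr hres hξ hne) κ
  have h0 : classInner (fun n : L => χ n - ξ ⟨n, hLT n.2⟩) θ = 0 := by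
    rw [show (fun n : L => χ n - ξ ⟨n, hLT n.2⟩) =
      (fun n : L => χ n) - fun n : L => ξ ⟨n, hLT n.2⟩ from rfl, classInner_sub_left]
    have h := (clifford_correspondence L hθ hLT hT hξ hξθ).2
    rw [hind] at h
    rw [h, sub_self]
  have h1 : classInner (fun a => χ (κ a : T) - ξ (κ a)) η = 0 := by
    by_contra hne'
    have h2 := CfsgLib.FullyRamified.inner_comp_ne_zero ι hR hη hne' hθ hηθ
    simp only [hι] at h2
    exact h2 h0
  rw [show (fun a => χ (κ a : T) - ξ (κ a)) = (fun a => χ (κ a : T)) - fun a => ξ (κ a) from rfl,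
    classInner_sub_left, sub_eq_zero] at h1
  exact h1

variable (φS : S →* MulAut G)

/-- Invariant characters over an invariant `θ` correspond to invariant characters of its inertia
group. -/
theorem exists_inv_pre (hθ : IsIrrCharacter L θ) (hLS : ∀ s, ∀ x ∈ L, φS s x ∈ L)
    (hθS : InvOn φS L θ) (hLT : L ≤ T) (hT : T = inertia L θ)
    (hTS : ∀ s, ∀ x ∈ T, φS s x ∈ T) {χ : G → ℂ} (hχ : IsIrrCharacter G χ) (hi : Inv φS χ)
    (hc : classInner (fun n : L => χ n) θ ≠ 0) :
    ∃ ξ : IrrCharacter T, InvOn φS T (ξ : T → ℂ) ∧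
      classInner (fun n : L => (ξ : T → ℂ) ⟨n, hLT n.2⟩) θ ≠ 0 ∧
      indFun T (ξ : T → ℂ) = χ := by
  classical
  obtain ⟨ξ, hξ, hξθ, hind⟩ := exists_clifford_pre L hθ hLT hT hχ hc
  refine ⟨⟨ξ, hξ⟩, fun s x y hxy => ?_, hξθ, hind⟩
  have hirr : IsIrrCharacter T (fun t => ξ (restrictHom φS T hTS s t)) :=
    isIrrCharacter_comp_surjective hξ (restrictHom φS T hTS s).toMonoidHom
      (restrictHom φS T hTS s).surjective
  have hover : classInner (fun n : L => ξ (restrictHom φS T hTS s ⟨n, hLT n.2⟩)) θ ≠ 0 := by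
    rw [show θ = fun n => θ (restrictHom φS L hLS s n) from
      funext fun n => (hθS s n _ rfl).symm]
    exact (CfsgLib.FullyRamified.classInner_equiv (restrictHom φS L hLS s)
      (fun n : L => ξ ⟨n, hLT n.2⟩) θ).trans_ne hξθ
  have hne : classInner (fun t : T => χ t) (fun t => ξ (restrictHom φS T hTS s t)) ≠ 0 := by
    rw [show (fun t : T => χ t) = fun t : T => χ ((restrictHom φS T hTS s t : T) : G) from
      funext fun t => (hi s t).symm]
    refine (CfsgLib.FullyRamified.classInner_equiv (restrictHom φS T hTS s)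
      (fun t : T => χ t) ξ).trans_ne ?_
    rw [← frobenius_reciprocity' T ξ (isClassFunction_irr hχ), hind, classInner_irr_self hχ]
    exact one_ne_zero
  have hirr2 := (clifford_correspondence L hθ hLT hT hirr hover).1
  have heq : indFun T (fun t => ξ (restrictHom φS T hTS s t)) = indFun T ξ := by
    rw [hind]
    by_contra h'
    apply hne
    rw [← frobenius_reciprocity' T _ (isClassFunction_irr hχ)]
    exact classInner_irr_ne hχ hirr2 (fun e => h' e.symm)
  have := congrFun (clifford_correspondence_inj L hθ hLT hT hirr hξ hover hξθ heq) x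
  rw [show y = restrictHom φS T hTS s x from Subtype.ext hxy]
  exact this

/-- Induction from the inertia group keeps invariance. -/
theorem inv_indFun (hθ : IsIrrCharacter L θ) (hLT : L ≤ T) (hT : T = inertia L θ)
    (hTS : ∀ s, ∀ x ∈ T, φS s x ∈ T) {ξ : T → ℂ} (hξ : IsIrrCharacter T ξ)
    (hξS : InvOn φS T ξ) (hc : classInner (fun n : L => ξ ⟨n, hLT n.2⟩) θ ≠ 0) :
    Inv φS (indFun T ξ) := by
  classical
  obtain ⟨hirr, -⟩ := clifford_correspondence L hθ hLT hT hξ hc
  intro s g
  have hirr' := isIrr_twist φS s hirr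
  suffices e : (fun g => indFun T ξ (φS s g)) = indFun T ξ from congrFun e g
  by_contra h'
  have h1 : classInner (fun t : T => indFun T ξ (φS s t)) ξ ≠ 0 := by
    rw [show ξ = fun t => ξ (restrictHom φS T hTS s t) from
      funext fun t => (hξS s t _ rfl).symm]
    refine (CfsgLib.FullyRamified.classInner_equiv (restrictHom φS T hTS s)
      (fun t : T => indFun T (fun t => ξ (restrictHom φS T hTS s t)) t) ξ).trans_ne ?_
    rw [show (fun t => ξ (restrictHom φS T hTS s t)) = ξ from funext fun t => hξS s t _ rfl,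
      ← frobenius_reciprocity' T ξ (isClassFunction_irr hirr), classInner_irr_self hirr]
    exact one_ne_zero
  apply h1
  rw [← frobenius_reciprocity' T ξ (isClassFunction_irr hirr')]
  exact classInner_irr_ne hirr' hirr h'

end General

namespace Setup

variable {φS : S →* MulAut G} {K L H : Subgroup G}
variable [K.Normal] [L.Normal] [Fintype K] [Fintype L] [Fintype H]

/-- Invariant constituents are conjugate under fixed elements. -/
theorem constituent_conj (D : Setup φS K L H) (hsolv : Group.IsSolvable G) {χ : G → ℂ}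
    (hχ : IsIrrCharacter G χ) {θ θ' : L → ℂ} (hθ : IsIrrCharacter L θ)
    (hθ' : IsIrrCharacter L θ') (hi : InvOn φS L θ) (hi' : InvOn φS L θ')
    (h : classInner (fun n : L => χ n) θ ≠ 0) (h' : classInner (fun n : L => χ n) θ' ≠ 0) :
    ∃ c, (∀ s, φS s c = c) ∧ conjNormFun L c θ = θ' := by
  classical
  rw [clifford L hχ hθ h, classInner_smul_left, mul_ne_zero_iff, classInner_sum_left] at h'
  obtain ⟨ψ, hψ, hψne⟩ := Finset.exists_ne_zero_of_sum_ne_zero h'.2
  obtain ⟨g, rfl⟩ := (mem_conjOrbit L).1 hψ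
  have hg : conjNormFun L g θ = θ' := by
    by_contra hne
    exact hψne (classInner_irr_ne (isIrr_conjNormFun L g hθ) hθ' hne)
  obtain ⟨k, hk, c₀, hc₀, rfl⟩ := D.prod g
  rw [conjNormFun_mul] at hg
  have hki : InvOn φS L (conjNormFun L k θ) := by
    rw [show conjNormFun L k θ = conjNormFun L c₀⁻¹ θ' by rw [← hg, conjNormFun_inv]]
    intro s x y hxy
    refine hi' s _ _ ?_
    show c₀⁻¹ * (y : G) * c₀⁻¹⁻¹ = φS s (c₀⁻¹ * x * c₀⁻¹⁻¹)
    simp only [map_mul, map_inv, hc₀, hxy]
  have hstep : ∀ s, conjNormFun L (φS s k) θ = conjNormFun L k θ := fun s => by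
    funext y
    obtain ⟨x, hx⟩ : ∃ x : L, (y : G) = φS s x :=
      ⟨⟨φS s⁻¹ y, D.stabL s⁻¹ y y.2⟩, by simp⟩
    rw [hki s x y hx]
    refine hi s ⟨k * x * k⁻¹, D.normL.conj_mem _ x.2 k⟩ _ ?_
    show φS s k * (y : G) * (φS s k)⁻¹ = φS s (k * x * k⁻¹)
    simp only [map_mul, map_inv, hx]
  set I := inertia L θ ⊓ K with hI
  have hLI : L ≤ I := le_inf (le_inertia L (isClassFunction_irr hθ)) D.leK
  have hKI : ∀ a ∈ K, ∀ n ∈ I, a * n * a⁻¹ ∈ I := fun a ha n hn => by
    have h1 := I.mul_mem (hLI (D.comm a ha n hn.2)) hn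
    simpa [mul_assoc] using h1
  have hIS : ∀ s, ∀ x ∈ I, φS s x ∈ I := fun s x hx => by
    refine ⟨(mem_inertia L).2 (funext fun y => ?_), D.stabK s x hx.2⟩
    obtain ⟨z, hz⟩ : ∃ z : L, (y : G) = φS s z :=
      ⟨⟨φS s⁻¹ y, D.stabL s⁻¹ y y.2⟩, by simp⟩
    rw [hi s z y hz]
    refine (hi s ⟨x * z * x⁻¹, D.normL.conj_mem _ z.2 x⟩ _ ?_).trans
      (congrFun ((mem_inertia L).1 hx.1) z)
    show φS s x * (y : G) * (φS s x)⁻¹ = φS s (x * z * x⁻¹)
    simp only [map_mul, map_inv, hz]
  obtain ⟨c, hcK, hc, hkc⟩ := lift_fixed φS D.cop hsolv K I inf_le_right hKI D.stabK hIS hk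
    (fun s => by
      have h1 : φS s k * k⁻¹ ∈ I := ⟨(mem_inertia L).2 (by
        rw [conjNormFun_mul, hstep s, conjNormFun_inv]),
        K.mul_mem (D.stabK s k hk) (K.inv_mem hk)⟩
      have h2 := hKI k⁻¹ (K.inv_mem hk) _ h1
      simpa [mul_assoc] using h2)
  refine ⟨c * c₀, fun s => by rw [map_mul, hc, hc₀], ?_⟩
  rw [conjNormFun_mul, ← hg]
  congr 1
  have h3 : c * k⁻¹ ∈ I := by
    have := hKI k hk _ hkc
    simpa [mul_assoc] using this
  conv_lhs => rw [show c = c * k⁻¹ * k by rw [inv_mul_cancel_right], conjNormFun_mul,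
    (mem_inertia L).1 h3.1]

/-- A fixed element of `K` fixes `θ`. -/
theorem conj_fixed_eq (D : Setup φS K L H) {θ : L → ℂ} (hθ : IsIrrCharacter L θ) {c : G}
    (hcK : c ∈ K) (hc : ∀ s, φS s c = c) : conjNormFun L c θ = θ :=
  conjNormFun_of_mem L (D.fp c hcK fun s => by rw [hc, inv_mul_cancel]; exact L.one_mem)
    (isClassFunction_irr hθ)

/-- The inertia group of an invariant character is stable. -/
theorem inertia_stable (D : Setup φS K L H) {θ : L → ℂ} (hi : InvOn φS L θ) (s : S) :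
    ∀ x ∈ inertia L θ, φS s x ∈ inertia L θ := fun x hx => by
  refine (mem_inertia L).2 (funext fun y => ?_)
  obtain ⟨z, hz⟩ : ∃ z : L, (y : G) = φS s z :=
    ⟨⟨φS s⁻¹ y, D.stabL s⁻¹ y y.2⟩, by simp⟩
  rw [hi s z y hz]
  refine (hi s ⟨x * z * x⁻¹, D.normL.conj_mem _ z.2 x⟩ _ ?_).trans
    (congrFun ((mem_inertia L).1 hx) z)
  show φS s x * (y : G) * (φS s x)⁻¹ = φS s (x * z * x⁻¹)
  simp only [map_mul, map_inv, hz]

/-- The hypotheses pass to the inertia group. -/
theorem onInertia (D : Setup φS K L H) (hsolv : Group.IsSolvable G) {θ : L → ℂ}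
    (hθ : IsIrrCharacter L θ) (hi : InvOn φS L θ) :
    Setup (restrictHom φS (inertia L θ) (fun s => D.inertia_stable hi s))
      (K.subgroupOf (inertia L θ)) (L.subgroupOf (inertia L θ))
      (H.subgroupOf (inertia L θ)) where
  odd := D.odd.of_dvd_nat (Subgroup.card_subgroup_dvd_card _)
  cop := D.cop.coprime_dvd_right (Subgroup.card_subgroup_dvd_card _)
  leK := fun x hx => D.leK hx
  normK := D.normK.subgroupOf _
  normL := D.normL.subgroupOf _
  comm x hx y hy := D.comm x hx y hy
  stabK s x hx := D.stabK s x hx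
  stabL s x hx := D.stabL s x hx
  fp k hk h := D.fp k hk fun s => h s
  memH h := by
    constructor
    · intro hh
      obtain ⟨l, hl, c, hc, e⟩ := (D.memH (h : G)).1 hh
      have hlT := le_inertia L (isClassFunction_irr hθ) hl
      have hcT : c ∈ inertia L θ := by
        have := (inertia L θ).mul_mem ((inertia L θ).inv_mem hlT) h.2
        rwa [e, inv_mul_cancel_left] at this
      exact ⟨⟨l, hlT⟩, hl, ⟨c, hcT⟩, fun s => Subtype.ext (hc s), Subtype.ext e⟩
    · rintro ⟨l, hl, c, hc, rfl⟩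
      exact (D.memH _).2 ⟨l, hl, c, fun s => congrArg Subtype.val (hc s), rfl⟩
  prod g := by
    classical
    obtain ⟨k, hk, c, hc, e⟩ := D.prod (g : G)
    have hg := (mem_inertia L).1 g.2
    rw [e, conjNormFun_mul] at hg
    have hki : InvOn φS L (conjNormFun L k θ) := by
      rw [show conjNormFun L k θ = conjNormFun L c⁻¹ θ by
        conv_rhs => rw [← hg, conjNormFun_inv]]
      intro s x y hxy
      refine hi s _ _ ?_
      show c⁻¹ * (y : G) * c⁻¹⁻¹ = φS s (c⁻¹ * x * c⁻¹⁻¹)
      simp only [map_mul, map_inv, hc, hxy]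
    have hkT : k ∈ inertia L θ := by
      refine (mem_inertia L).2 ?_
      have hstep : ∀ s, conjNormFun L (φS s k) θ = conjNormFun L k θ := fun s => by
        funext y
        obtain ⟨x, hx⟩ : ∃ x : L, (y : G) = φS s x :=
          ⟨⟨φS s⁻¹ y, D.stabL s⁻¹ y y.2⟩, by simp⟩
        rw [hki s x y hx]
        refine hi s ⟨k * x * k⁻¹, D.normL.conj_mem _ x.2 k⟩ _ ?_
        show φS s k * (y : G) * (φS s k)⁻¹ = φS s (k * x * k⁻¹)
        simp only [map_mul, map_inv, hx]
      set I := inertia L θ ⊓ K with hI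
      have hLI : L ≤ I := le_inf (le_inertia L (isClassFunction_irr hθ)) D.leK
      have hKI : ∀ a ∈ K, ∀ n ∈ I, a * n * a⁻¹ ∈ I := fun a ha n hn => by
        have h1 := I.mul_mem (hLI (D.comm a ha n hn.2)) hn
        simpa [mul_assoc] using h1
      obtain ⟨c', hcK, hc', hkc⟩ := lift_fixed φS D.cop hsolv K I inf_le_right hKI D.stabK
        (fun s x hx => ⟨D.inertia_stable hi s x hx.1, D.stabK s x hx.2⟩) hk
        (fun s => by
          have h1 : φS s k * k⁻¹ ∈ I := ⟨(mem_inertia L).2 (by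
            rw [conjNormFun_mul, hstep s, conjNormFun_inv]),
            K.mul_mem (D.stabK s k hk) (K.inv_mem hk)⟩
          have h2 := hKI k⁻¹ (K.inv_mem hk) _ h1
          simpa [mul_assoc] using h2)
      have hc'T : c' ∈ inertia L θ := (mem_inertia L).2 (D.conj_fixed_eq hθ hcK hc')
      have h4 : k⁻¹ ∈ inertia L θ := by
        have := (inertia L θ).mul_mem hkc.1 ((inertia L θ).inv_mem hc'T)
        rwa [mul_inv_cancel_right] at this
      exact (mem_inertia L).1 ((Subgroup.inv_mem_iff _).1 h4)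
    have hcT : c ∈ inertia L θ := by
      have := (inertia L θ).mul_mem ((inertia L θ).inv_mem hkT) g.2
      rwa [e, inv_mul_cancel_left] at this
    exact ⟨⟨k, hkT⟩, hk, ⟨c, hcT⟩, fun s => Subtype.ext (hc s), Subtype.ext e⟩

end Setup

end CfsgLib.ParityCorr
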