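import Cfsg.Agent.Lib.ParityCorr.Signed
import Cfsg.Agent.Lib.ParityCorr.Commutant
import Cfsg.Agent.Lib.Glauberman.Invariant
import Cfsg.Agent.Lib.FullyRamified.Sections

/-!
# The invariant character of the abelian section

Coprime operators without fixed points on an abelian section `K ⧸ L` leave exactly one character
of `K` over an invariant character of `L` fixed.
-/

namespace CfsgLib.ParityCorr

open Cfsg CfsgLib.CharTheory CfsgLib.Glauberman
open scoped ComplexConjugate

set_option linter.unusedVariables false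
set_option linter.unusedSectionVars false
set_option linter.style.haveILetI false

universe u v w

section Generic

/-- A constituent between a subgroup and the group. -/
theorem exists_between {A : Type v} {B : Type u} [Group A] [Group B] [Fintype A] [Fintype B]
    (κ : A →* B) {f : B → ℂ} (hf : IsClassFunction B f) {θ : A → ℂ}
    (h : classInner (fun a => f (κ a)) θ ≠ 0) :
    ∃ ξ : IrrCharacter B, classInner f (ξ : B → ℂ) ≠ 0 ∧
      classInner (fun a => (ξ : B → ℂ) (κ a)) θ ≠ 0 := by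
  classical
  have e : (fun a => f (κ a)) =
      ∑ ξ : IrrCharacter B, classInner f (ξ : B → ℂ) • fun a => (ξ : B → ℂ) (κ a) := by
    funext a
    have := congrFun (eq_sum_irr hf) (κ a)
    simp only [Finset.sum_apply, Pi.smul_apply] at this ⊢
    exact this
  rw [e, classInner_sum_left] at h
  obtain ⟨ξ, -, hξ⟩ := Finset.exists_ne_zero_of_sum_ne_zero h
  rw [classInner_smul_left, mul_ne_zero_iff] at hξ
  exact ⟨ξ, hξ.1, hξ.2⟩

/-- The squares of the degrees over an invariant character. -/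
theorem sum_sq_over {G : Type u} [Group G] [Fintype G] (N : Subgroup G) [N.Normal] [Fintype N]
    {θ : N → ℂ} (hθ : IsIrrCharacter N θ) (hinv : ∀ g : G, conjNormFun N g θ = θ)
    (s : Finset (IrrCharacter G))
    (hs : ∀ χ : IrrCharacter G, χ ∈ s ↔ classInner (fun n : N => (χ : G → ℂ) n) θ ≠ 0) :
    ∑ χ ∈ s, (χ : G → ℂ) 1 * (χ : G → ℂ) 1 = (N.index : ℂ) * (θ 1 * θ 1) := by
  classical
  have hflip : ∀ χ : IrrCharacter G, classInner (indFun N θ) (χ : G → ℂ) =
      classInner (fun n : N => (χ : G → ℂ) n) θ := fun χ => by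
    obtain ⟨m, hm⟩ := classInner_char_nat (isCharacter_restrict (isCharacter_of_irr χ.2) N)
      (isCharacter_of_irr hθ)
    rw [frobenius_reciprocity N θ (isClassFunction_irr χ.2), ← classInner_comm, hm, map_natCast]
  have hdeg : ∀ χ ∈ s, (χ : G → ℂ) 1 = classInner (fun n : N => (χ : G → ℂ) n) θ * θ 1 :=
    fun χ hχ => congrFun (clifford_invariant N χ.2 hθ ((hs χ).1 hχ) hinv) 1
  have h1 := congrFun (eq_sum_irr (indFun_isClassFunction N θ)) 1
  simp only [indFun_apply_one, Finset.sum_apply, Pi.smul_apply, smul_eq_mul, hflip] at h1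
  rw [← mul_assoc, h1, ← Finset.sum_subset (Finset.subset_univ s) (fun χ _ hχ => by
    rw [hs, not_not] at hχ; rw [hχ, zero_mul]), Finset.sum_mul]
  refine Finset.sum_congr rfl fun χ hχ => ?_
  rw [hdeg χ hχ]; ring

variable {K : Type u} [Group K] [Fintype K] (L : Subgroup K) [L.Normal]
variable {S : Type w} [Group S] [Fintype S] (σ : S →* MulAut K)

/-- A fixed linear character of the section is trivial. -/
theorem fixed_dual_trivial (hab : ∀ x y : K, x * y * x⁻¹ * y⁻¹ ∈ L)
    (hcop : (Fintype.card S).Coprime (Nat.card K)) (hL : ∀ s, ∀ l ∈ L, σ s l ∈ L)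
    (hfp : ∀ k, (∀ s, k⁻¹ * σ s k ∈ L) → k ∈ L) {a : K →* ℂˣ} (ha : ∀ l ∈ L, a l = 1)
    (hfix : ∀ s k, a (σ s k) = a k) : a = 1 := by
  classical
  letI : CommGroup (K ⧸ L) :=
    { (inferInstance : Group (K ⧸ L)) with
      mul_comm := fun x y => by
        induction x using QuotientGroup.induction_on with
        | _ x =>
          induction y using QuotientGroup.induction_on with
          | _ y =>
            refine (QuotientGroup.eq (a := x * y) (b := y * x)).mpr ?_
            simpa [mul_assoc] using hab y⁻¹ x⁻¹ }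
  refine MonoidHom.ext fun k => ?_
  set q : K ⧸ L := ∏ s : S, ((σ s k : K) : K ⧸ L) with hq
  obtain ⟨r, hr⟩ := QuotientGroup.mk_surjective q
  have hrfix : ∀ t, r⁻¹ * σ t r ∈ L := fun t => by
    refine QuotientGroup.eq.1 ?_
    let τt : K ⧸ L →* K ⧸ L :=
      QuotientGroup.map L L (σ t).toMonoidHom fun l hl => hL t l hl
    calc ((r : K) : K ⧸ L) = q := hr
      _ = ∏ s : S, τt ((σ s k : K) : K ⧸ L) := by
        refine (Fintype.prod_equiv (Equiv.mulLeft t) _ _ fun s => ?_).symm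
        show (((σ t) (σ s k) : K) : K ⧸ L) = _
        rw [Equiv.coe_mulLeft, map_mul]
        rfl
      _ = τt q := (map_prod τt _ _).symm
      _ = τt ((r : K) : K ⧸ L) := by rw [hr]
      _ = ((σ t r : K) : K ⧸ L) := rfl
  have hq1 : q = 1 := by
    rw [← hr]; exact (QuotientGroup.eq_one_iff r).2 (hfp r hrfix)
  let abar : K ⧸ L →* ℂˣ := QuotientGroup.lift L a fun l hl => ha l hl
  have hN : a k ^ Fintype.card S = 1 := by
    have h : abar q = 1 := by rw [hq1, map_one]
    rw [hq, map_prod] at h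
    have h2 : ∏ s : S, a (σ s k) = 1 := h
    simpa [hfix, Finset.card_univ] using h2
  have hK : a k ^ Nat.card K = 1 := by rw [← map_pow, pow_card_eq_one', map_one]
  exact orderOf_eq_one_iff.1 (Nat.eq_one_of_dvd_coprimes hcop (orderOf_dvd_of_pow_eq_one hN)
    (orderOf_dvd_of_pow_eq_one hK))

/-- A linear character whose twists lie in `Δ` lies in `Δ`. -/
theorem mem_of_twist_mem (hab : ∀ x y : K, x * y * x⁻¹ * y⁻¹ ∈ L)
    (hcop : (Fintype.card S).Coprime (Nat.card K)) (hL : ∀ s, ∀ l ∈ L, σ s l ∈ L)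
    (hfp : ∀ k, (∀ s, k⁻¹ * σ s k ∈ L) → k ∈ L) (Δ : Subgroup (K →* ℂˣ)) {a : K →* ℂˣ}
    (ha : ∀ l ∈ L, a l = 1) (h : ∀ s, a.comp (σ s).toMonoidHom * a⁻¹ ∈ Δ) : a ∈ Δ := by
  classical
  set P : K →* ℂˣ := ∏ s : S, a.comp (σ s).toMonoidHom with hP
  have hP1 : P = 1 := by
    refine fixed_dual_trivial L σ hab hcop hL hfp (fun l hl => ?_) fun t k => ?_
    · rw [hP, MonoidHom.finsetProd_apply]
      exact Finset.prod_eq_one fun s _ => ha _ (hL s l hl)
    · simp only [hP, MonoidHom.finsetProd_apply]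
      refine Fintype.prod_equiv (Equiv.mulRight t) _ _ fun s => ?_
      show a (σ s (σ t k)) = a (σ (s * t) k)
      rw [map_mul]
      rfl
  have h1 : a⁻¹ ^ Fintype.card S ∈ Δ := by
    have h' : ∏ s : S, a.comp (σ s).toMonoidHom * a⁻¹ ∈ Δ := Δ.prod_mem fun s _ => h s
    rw [Finset.prod_mul_distrib, ← hP, hP1, Finset.prod_const, Finset.card_univ] at h'
    convert h' using 1
    exact MonoidHom.ext fun k => by simp
  replace h1 : a ^ Fintype.card S ∈ Δ := by
    convert Δ.inv_mem h1 using 1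
    exact MonoidHom.ext fun k => by simp
  obtain ⟨m, hm⟩ := exists_pow_eq_self_of_coprime (x := a) (n := Fintype.card S)
    (hcop.coprime_dvd_right (orderOf_dvd_of_pow_eq_one (hom_pow_card a)))
  rw [← hm]
  exact Δ.pow_mem h1 m

/-- At most one invariant character lies over an invariant character of the bottom. -/
theorem eq_of_invariant_over [Fintype L] (hab : ∀ x y : K, x * y * x⁻¹ * y⁻¹ ∈ L)
    (hcop : (Fintype.card S).Coprime (Nat.card K)) (hL : ∀ s, ∀ l ∈ L, σ s l ∈ L)
    (hfp : ∀ k, (∀ s, k⁻¹ * σ s k ∈ L) → k ∈ L) {θ : L → ℂ} (hθ : IsIrrCharacter L θ)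
    {φ φ' : K → ℂ} (hφ : IsIrrCharacter K φ) (hφ' : IsIrrCharacter K φ')
    (hi : ∀ s k, φ (σ s k) = φ k) (hi' : ∀ s k, φ' (σ s k) = φ' k)
    (h : classInner (fun l : L => φ l) θ ≠ 0) (h' : classInner (fun l : L => φ' l) θ ≠ 0) :
    φ = φ' := by
  obtain ⟨a, ha, e⟩ := Glauberman.Invariant.exists_linear_mul L hab hθ hφ hφ' h h'
  let Δ : Subgroup (K →* ℂˣ) :=
    { carrier := {b | ∀ k, (b k : ℂ) * φ k = φ k}
      one_mem' := fun k => by simp
      mul_mem' := fun {b c} hb hc k => by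
        rw [MonoidHom.mul_apply, Units.val_mul, mul_assoc, hc, hb]
      inv_mem' := fun {b} hb k => by
        conv_lhs => rw [← hb k]
        rw [MonoidHom.inv_apply, ← mul_assoc, ← Units.val_mul, inv_mul_cancel, Units.val_one,
          one_mul] }
  have hmem : a ∈ Δ := mem_of_twist_mem L σ hab hcop hL hfp Δ ha fun s k => by
    have h1 := hi' s k
    rw [e, Pi.mul_apply, Pi.mul_apply, hi] at h1
    rw [MonoidHom.mul_apply, MonoidHom.inv_apply, MonoidHom.comp_apply, MulEquiv.coe_toMonoidHom,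
      Units.val_mul, mul_comm (a (σ s k) : ℂ), mul_assoc, mul_comm (a (σ s k) : ℂ), h1,
      mul_comm (φ k), ← mul_assoc, ← Units.val_mul, inv_mul_cancel, Units.val_one, one_mul]
  funext k
  rw [e, Pi.mul_apply, mul_comm]
  exact (hmem k).symm

end Generic

variable {G : Type u} [Group G] {S : Type w} [Group S]

/-- The hypotheses of the correspondence for a section without fixed points. -/
structure Setup (φS : S →* MulAut G) (K L H : Subgroup G) : Prop where
  odd : Odd (Nat.card G)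
  cop : (Nat.card S).Coprime (Nat.card G)
  leK : L ≤ K
  normK : K.Normal
  normL : L.Normal
  comm : ∀ x ∈ K, ∀ y ∈ K, x * y * x⁻¹ * y⁻¹ ∈ L
  stabK : ∀ s, ∀ x ∈ K, φS s x ∈ K
  stabL : ∀ s, ∀ x ∈ L, φS s x ∈ L
  fp : ∀ k ∈ K, (∀ s, k⁻¹ * φS s k ∈ L) → k ∈ L
  memH : ∀ h, h ∈ H ↔ ∃ l ∈ L, ∃ c, (∀ s, φS s c = c) ∧ h = l * c
  prod : ∀ g, ∃ k ∈ K, ∃ c, (∀ s, φS s c = c) ∧ g = k * c

/-- Invariance of a function on a subgroup under the operators. -/
def InvOn (φS : S →* MulAut G) (M : Subgroup G) (f : M → ℂ) : Prop :=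
  ∀ s (x y : M), (y : G) = φS s x → f y = f x

variable {φS : S →* MulAut G} {K L H : Subgroup G}

namespace Setup

theorem leH (D : Setup φS K L H) : L ≤ H := fun l hl =>
  (D.memH l).2 ⟨l, hl, 1, fun s => map_one _, (mul_one l).symm⟩

theorem stabH (D : Setup φS K L H) (s : S) : ∀ x ∈ H, φS s x ∈ H := fun x hx => by
  obtain ⟨l, hl, c, hc, rfl⟩ := (D.memH x).1 hx
  rw [map_mul, hc]
  exact (D.memH _).2 ⟨φS s l, D.stabL s l hl, c, hc, rfl⟩

theorem fixed_mem (D : Setup φS K L H) {c : G} (hc : ∀ s, φS s c = c) : c ∈ H :=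
  (D.memH c).2 ⟨1, L.one_mem, c, hc, (one_mul c).symm⟩

theorem inter (D : Setup φS K L H) : ∀ x ∈ K, x ∈ H → x ∈ L := fun x hxK hxH => by
  obtain ⟨l, hl, c, hc, rfl⟩ := (D.memH x).1 hxH
  have hcK : c ∈ K := (Subgroup.mul_mem_cancel_left K (D.leK hl)).1 hxK
  exact L.mul_mem hl (D.fp c hcK fun s => by rw [hc, inv_mul_cancel]; exact L.one_mem)

theorem split (D : Setup φS K L H) : Split G K H L where
  odd := D.odd
  leK := D.leK
  leH := D.leH
  inter := D.inter
  prod g := by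
    obtain ⟨k, hk, c, hc, rfl⟩ := D.prod g
    exact ⟨k, hk, c, D.fixed_mem hc, rfl⟩
  normalK := D.normK
  comm := D.comm

variable [Fintype G] [Fintype S] [K.Normal] [L.Normal] [Fintype K] [Fintype L]

theorem copK (D : Setup φS K L H) : (Fintype.card S).Coprime (Nat.card K) := by
  rw [← Nat.card_eq_fintype_card]
  exact D.cop.coprime_dvd_right (Subgroup.card_subgroup_dvd_card K)

/-- The operators on `K`. -/
noncomputable def onK (D : Setup φS K L H) : S →* MulAut K := restrictHom φS K D.stabK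

theorem onK_fp (D : Setup φS K L H) :
    ∀ k : K, (∀ s, k⁻¹ * D.onK s k ∈ L.subgroupOf K) → k ∈ L.subgroupOf K :=
  fun k hk => D.fp k k.2 fun s => hk s

theorem sub_comm (D : Setup φS K L H) :
    ∀ x y : K, x * y * x⁻¹ * y⁻¹ ∈ L.subgroupOf K := fun x y => D.comm x x.2 y y.2

/-- Invariant characters of `K` over `θ` are unique. -/
theorem phi_unique (D : Setup φS K L H) {θ : L → ℂ} (hθ : IsIrrCharacter L θ)
    {φ φ' : K → ℂ} (hφ : IsIrrCharacter K φ) (hφ' : IsIrrCharacter K φ')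
    (hi : InvOn φS K φ) (hi' : InvOn φS K φ')
    (h : classInner (fun l : L => φ ⟨l, D.leK l.2⟩) θ ≠ 0)
    (h' : classInner (fun l : L => φ' ⟨l, D.leK l.2⟩) θ ≠ 0) : φ = φ' := by
  classical
  rw [← classInner_subgroupOf L D.leK φ θ] at h
  rw [← classInner_subgroupOf L D.leK φ' θ] at h'
  exact eq_of_invariant_over (L.subgroupOf K) D.onK D.sub_comm D.copK
    (fun s l hl => D.stabL s (l : G) hl) D.onK_fp (isIrr_subgroupOf L D.leK hθ) hφ hφ'
    (fun s k => hi s k _ rfl) (fun s k => hi' s k _ rfl) h h'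

/-- The invariant character of `K` over `θ`. -/
theorem exists_phi (D : Setup φS K L H) {θ : L → ℂ} (hθ : IsIrrCharacter L θ)
    (hG : ∀ g : G, conjNormFun L g θ = θ) (hS : InvOn φS L θ) :
    ∃ φ₀ : IrrCharacter K, InvOn φS K φ₀ ∧ (∀ g, conjNormFun K g (φ₀ : K → ℂ) = φ₀) ∧
      classInner (fun l : L => (φ₀ : K → ℂ) ⟨l, D.leK l.2⟩) θ ≠ 0 := by
  classical
  obtain ⟨χ, hχ, hm⟩ := Glauberman.Invariant.exists_inv_over_of_solvable (G := K)
    (L.subgroupOf K).index D.onK (⊥ : Subgroup S) (L.subgroupOf K) rfl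
    (fun s x hx => D.stabL s (x : G) hx)
    (fun k hk => ⟨1, one_mem _, fun g => by
      rw [Subgroup.mem_bot.1 hk, map_one]; simp⟩)
    (by
      rw [Subgroup.index_bot, Nat.card_eq_fintype_card]
      exact D.copK.coprime_dvd_right (Subgroup.index_dvd_card _))
    ⟨1, by
      rw [derivedSeries_one, commutator_def, Subgroup.commutator_le]
      exact fun x _ y _ => D.sub_comm x y⟩
    ⟨_, isIrr_subgroupOf L D.leK hθ⟩
    (fun s x y hxy => hS s ⟨(x : K), Subgroup.mem_subgroupOf.1 x.2⟩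
      ⟨(y : K), Subgroup.mem_subgroupOf.1 y.2⟩ (congrArg Subtype.val hxy))
  have hinv : InvOn φS K (χ : K → ℂ) := fun s x y hxy => by
    rw [show y = D.onK s x from Subtype.ext hxy]
    exact hχ s x
  have hover : classInner (fun l : L => (χ : K → ℂ) ⟨l, D.leK l.2⟩) θ ≠ 0 := by
    rw [← classInner_subgroupOf L D.leK (χ : K → ℂ) θ]
    intro h0
    have := mult_spec (L.subgroupOf K).subtype χ ⟨_, isIrr_subgroupOf L D.leK hθ⟩
    rw [show (fun x => (χ : K → ℂ) ((L.subgroupOf K).subtype x)) =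
      fun x : L.subgroupOf K => (χ : K → ℂ) x from rfl, h0] at this
    exact hm (Nat.cast_eq_zero.1 this.symm)
  refine ⟨χ, hinv, fun g => ?_, hover⟩
  obtain ⟨k, hk, c, hc, rfl⟩ := D.prod g
  rw [conjNormFun_mul, conjNormFun_of_mem K hk (isClassFunction_irr χ.2)]
  refine D.phi_unique hθ (isIrr_conjNormFun K c χ.2) χ.2 (fun s x y hxy => ?_) hinv ?_ hover
  · exact hinv s _ _ (show c * (y : G) * c⁻¹ = φS s (c * x * c⁻¹) by
      simp only [map_mul, map_inv, hc, hxy])
  · rw [← classInner_conjNormFun L c, hG] at hover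
    exact hover

/-- An invariant character over `θ` lies over the invariant character of `K`. -/
theorem over_phi (D : Setup φS K L H) {θ : L → ℂ} (hθ : IsIrrCharacter L θ)
    (hG : ∀ g : G, conjNormFun L g θ = θ) {φ₀ : IrrCharacter K} (hi : InvOn φS K φ₀)
    (hφ₀ : classInner (fun l : L => (φ₀ : K → ℂ) ⟨l, D.leK l.2⟩) θ ≠ 0)
    {χ : G → ℂ} (hχ : IsIrrCharacter G χ) (hχS : ∀ s g, χ (φS s g) = χ g)
    (h : classInner (fun l : L => χ l) θ ≠ 0) :
    classInner (fun k : K => χ k) (φ₀ : K → ℂ) ≠ 0 := by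
  classical
  obtain ⟨ξ, hξ, hξθ⟩ := exists_between (Subgroup.inclusion D.leK)
    (isClassFunction_char (isCharacter_restrict (isCharacter_of_irr hχ) K)) (θ := θ) h
  suffices e : (ξ : K → ℂ) = φ₀ by rwa [← e]
  refine D.phi_unique hθ ξ.2 φ₀.2 ?_ hi hξθ hφ₀
  intro s
  -- the translate of `ξ` is a conjugate of `ξ`
  have hirr : IsIrrCharacter K (fun x => (ξ : K → ℂ) (D.onK s x)) :=
    isIrrCharacter_comp_surjective ξ.2 (D.onK s).toMonoidHom (D.onK s).surjective
  have hne : classInner (fun k : K => χ k) (fun x => (ξ : K → ℂ) (D.onK s x)) ≠ 0 := by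
    rw [show (fun k : K => χ k) = fun k : K => χ ((D.onK s k : K) : G) from
      funext fun k => (hχS s k).symm]
    rw [CfsgLib.FullyRamified.classInner_equiv (D.onK s) (fun k : K => χ k) (ξ : K → ℂ)]
    exact hξ
  have hres := clifford K hχ ξ.2 hξ
  rw [hres, classInner_smul_left, mul_ne_zero_iff, classInner_sum_left] at hne
  obtain ⟨ψ, hψ, hψne⟩ := Finset.exists_ne_zero_of_sum_ne_zero hne.2
  obtain ⟨g, rfl⟩ := (mem_conjOrbit K).1 hψ
  have hg : conjNormFun K g (ξ : K → ℂ) = fun x => (ξ : K → ℂ) (D.onK s x) := by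
    by_contra hne'
    exact hψne (classInner_irr_ne (isIrr_conjNormFun K g ξ.2) hirr hne')
  obtain ⟨k, hk, c, hc, rfl⟩ := D.prod g
  rw [conjNormFun_mul, conjNormFun_of_mem K hk (isClassFunction_irr ξ.2)] at hg
  have hpow : ∀ (i : ℕ) (x : K), (ξ : K → ℂ) (D.onK (s ^ i) x) =
      conjNormFun K (c ^ i) (ξ : K → ℂ) x := by
    intro i
    induction i with
    | zero => intro x; rw [pow_zero, pow_zero, map_one, conjNormFun_one]; rfl
    | succ i ih =>
      intro x
      have e1 : D.onK (s ^ (i + 1)) x = D.onK s (D.onK (s ^ i) x) := by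
        rw [pow_succ', map_mul]; rfl
      rw [e1, ← congrFun hg (D.onK (s ^ i) x), pow_succ, conjNormFun_mul]
      show (ξ : K → ℂ) ⟨c * (φS (s ^ i) x) * c⁻¹, _⟩ = conjNormFun K (c ^ i) (ξ : K → ℂ) _
      rw [← ih]
      refine congrArg (ξ : K → ℂ) (Subtype.ext ?_)
      show c * (φS (s ^ i) x) * c⁻¹ = φS (s ^ i) (c * x * c⁻¹)
      rw [map_mul, map_mul, map_inv, hc]
  have hn : conjNormFun K (c ^ orderOf s) (ξ : K → ℂ) = ξ := funext fun x => by
    rw [← hpow, pow_orderOf_eq_one, map_one]; rfl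
  obtain ⟨m, hm⟩ := exists_pow_eq_self_of_coprime (x := c) (n := orderOf s)
    ((D.cop.coprime_dvd_left (orderOf_dvd_natCard s)).coprime_dvd_right (orderOf_dvd_natCard c))
  have hcc : conjNormFun K c (ξ : K → ℂ) = ξ :=
    (mem_inertia K).1 (hm ▸ (inertia K (ξ : K → ℂ)).pow_mem ((mem_inertia K).2 hn) m)
  intro x y hxy
  rw [show y = D.onK s x from Subtype.ext hxy, ← congrFun hg x, hcc]

end Setup

end CfsgLib.ParityCorr
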