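import Cfsg.Agent.Lib.ParityCorr.Fourier

/-!
# Twisted units over an abelian section

For an irreducible representation `φ` of `K` and a normal subgroup `L`, the units commuting with
`φ L` and twisting `φ` by a linear character form a group with central commutators; for odd order
it becomes abelian after correcting by half of the commutator.
-/

namespace CfsgLib.ParityCorr

open Cfsg CfsgLib.CharTheory

set_option linter.unusedVariables false
set_option linter.unusedSectionVars false

universe u v

variable {K : Type u} [Group K] [Fintype K]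
variable {W : Type v} [AddCommGroup W] [Module ℂ W] [FiniteDimensional ℂ W]

/-- The scalar units. -/
noncomputable def sc : ℂˣ →* (Module.End ℂ W)ˣ :=
  Units.map (algebraMap ℂ (Module.End ℂ W)).toMonoidHom

theorem sc_val (c : ℂˣ) : ((sc c : (Module.End ℂ W)ˣ) : Module.End ℂ W) = (c : ℂ) • 1 := by
  show algebraMap ℂ (Module.End ℂ W) (c : ℂ) = _
  rw [Algebra.algebraMap_eq_smul_one]

theorem sc_comm (c : ℂˣ) (u : (Module.End ℂ W)ˣ) : sc c * u = u * sc c := by
  refine Units.ext ?_
  rw [Units.val_mul, Units.val_mul, sc_val, smul_one_mul, mul_smul_comm, mul_one]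

theorem smul_cancel_unit [Nontrivial W] (u : (Module.End ℂ W)ˣ) {a b : ℂ}
    (h : a • (u : Module.End ℂ W) = b • (u : Module.End ℂ W)) : a = b := by
  by_contra hne
  have h1 : (a - b) • (u : Module.End ℂ W) = 0 := by rw [sub_smul, h, sub_self]
  exact u.ne_zero ((smul_eq_zero.1 h1).resolve_left (sub_ne_zero.2 hne))

variable (φ : Representation ℂ K W) (L : Subgroup K)

/-- Units commuting with `φ L` and twisting `φ` by a linear character. -/
def twSub : Subgroup (Module.End ℂ W)ˣ where
  carrier := {u | (∀ l ∈ L, φ l * u = u * φ l) ∧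
    ∃ a : K →* ℂˣ, ∀ k, φ k * u = (a k : ℂ) • ((u : Module.End ℂ W) * φ k)}
  one_mem' := ⟨fun l _ => by simp, 1, fun k => by simp⟩
  mul_mem' := by
    rintro u v ⟨hu, a, ha⟩ ⟨hv, b, hb⟩
    refine ⟨fun l hl => ?_, a * b, fun k => ?_⟩
    · rw [Units.val_mul, ← mul_assoc, hu l hl, mul_assoc, hv l hl, mul_assoc]
    · rw [Units.val_mul, ← mul_assoc, ha, smul_mul_assoc, mul_assoc, hb, mul_smul_comm, smul_smul,
        ← mul_assoc, MonoidHom.mul_apply, Units.val_mul]
  inv_mem' := by
    rintro u ⟨hu, a, ha⟩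
    refine ⟨fun l hl => ?_, a⁻¹, fun k => ?_⟩
    · rw [Units.eq_inv_mul_iff_mul_eq, ← mul_assoc, ← hu l hl, Units.mul_inv_cancel_right]
    · have h := congrArg (fun X : Module.End ℂ W => ((u⁻¹ : (Module.End ℂ W)ˣ) : Module.End ℂ W) *
        X * ((u⁻¹ : (Module.End ℂ W)ˣ) : Module.End ℂ W)) (ha k)
      simp only [mul_smul_comm, smul_mul_assoc, Units.inv_mul_cancel_left,
        Units.mul_inv_cancel_right, mul_assoc, Units.mul_inv, mul_one] at h
      rw [h, smul_smul, MonoidHom.inv_apply, ← Units.val_mul, inv_mul_cancel, Units.val_one,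
        one_smul]

variable {φ L}

theorem twSub_comm (x : twSub φ L) {l : K} (hl : l ∈ L) :
    φ l * ((x : (Module.End ℂ W)ˣ) : Module.End ℂ W) =
      ((x : (Module.End ℂ W)ˣ) : Module.End ℂ W) * φ l := x.2.1 l hl

variable [φ.IsIrreducible]

theorem nontrivial_W (φ : Representation ℂ K W) [φ.IsIrreducible] : Nontrivial W :=
  Module.finrank_pos_iff.1 (Nat.pos_of_ne_zero fun h =>
    finrank_ne_zero_of_irr φ (by rw [h, Nat.cast_zero]))

theorem rep_isUnit (φ : Representation ℂ K W) (k : K) : φ k * φ k⁻¹ = 1 := by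
  rw [← map_mul, mul_inv_cancel, map_one]

/-- The linear character of a twisted unit. -/
noncomputable def aOf (x : twSub φ L) : K →* ℂˣ := x.2.2.choose

theorem aOf_spec (x : twSub φ L) (k : K) :
    φ k * ((x : (Module.End ℂ W)ˣ) : Module.End ℂ W) =
      (aOf x k : ℂ) • (((x : (Module.End ℂ W)ˣ) : Module.End ℂ W) * φ k) :=
  x.2.2.choose_spec k

theorem aOf_unique (x : twSub φ L) {a : K →* ℂˣ}
    (h : ∀ k, φ k * ((x : (Module.End ℂ W)ˣ) : Module.End ℂ W) =
      (a k : ℂ) • (((x : (Module.End ℂ W)ˣ) : Module.End ℂ W) * φ k)) : aOf x = a := by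
  haveI := nontrivial_W φ
  refine MonoidHom.ext fun k => Units.ext ?_
  set y : (Module.End ℂ W)ˣ := (x : (Module.End ℂ W)ˣ) *
    ⟨φ k, φ k⁻¹, rep_isUnit φ k, by rw [← map_mul, inv_mul_cancel, map_one]⟩
  exact smul_cancel_unit y ((aOf_spec x k).symm.trans (h k))

theorem aOf_mul (x y : twSub φ L) : aOf (x * y) = aOf x * aOf y :=
  aOf_unique _ fun k => by
    rw [Subgroup.coe_mul, Units.val_mul, ← mul_assoc, aOf_spec x, smul_mul_assoc, mul_assoc,
      aOf_spec y, mul_smul_comm, smul_smul, ← mul_assoc, MonoidHom.mul_apply, Units.val_mul]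

/-- The linear characters of twisted units, as a homomorphism. -/
noncomputable def aHom : twSub φ L →* (K →* ℂˣ) :=
  MonoidHom.mk' aOf aOf_mul

theorem aOf_apply_mem (x : twSub φ L) {l : K} (hl : l ∈ L) : aOf x l = 1 := by
  haveI := nontrivial_W φ
  refine Units.ext ?_
  set y : (Module.End ℂ W)ˣ := (x : (Module.End ℂ W)ˣ) *
    ⟨φ l, φ l⁻¹, rep_isUnit φ l, by rw [← map_mul, inv_mul_cancel, map_one]⟩
  refine smul_cancel_unit y ?_
  rw [Units.val_one, one_smul]
  exact (aOf_spec x l).symm.trans (twSub_comm x hl)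

theorem exists_scalar_of_commutes (u : (Module.End ℂ W)ˣ)
    (h : ∀ k, φ k * (u : Module.End ℂ W) = (u : Module.End ℂ W) * φ k) : ∃ c : ℂˣ, u = sc c := by
  have h1 := eq_smul_id_of_commute φ (u : Module.End ℂ W) fun k => (h k).symm
  set c : ℂ := LinearMap.trace ℂ W (u : Module.End ℂ W) / (Module.finrank ℂ W : ℂ) with hc
  haveI := nontrivial_W φ
  have hc0 : c ≠ 0 := fun h0 => u.ne_zero (by rw [h1, h0, zero_smul])
  exact ⟨Units.mk0 c hc0, Units.ext (by rw [sc_val, Units.val_mk0]; exact h1)⟩

theorem sc_mem (c : ℂˣ) : (sc c : (Module.End ℂ W)ˣ) ∈ twSub φ L :=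
  ⟨fun l _ => by rw [sc_val, mul_smul_comm, smul_mul_assoc, one_mul, mul_one],
    1, fun k => by rw [sc_val, mul_smul_comm, smul_mul_assoc, one_mul, mul_one, MonoidHom.one_apply,
      Units.val_one, one_smul]⟩

/-- The scalars among the twisted units. -/
noncomputable def scTw : ℂˣ →* twSub φ L :=
  MonoidHom.codRestrict sc _ fun c => sc_mem c

theorem scTw_coe (c : ℂˣ) : ((scTw c : twSub φ L) : (Module.End ℂ W)ˣ) = sc c := rfl

theorem scTw_comm (c : ℂˣ) (x : twSub φ L) : scTw c * x = x * scTw c :=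
  Subtype.ext (sc_comm c _)

theorem aOf_scTw (c : ℂˣ) : aOf (scTw c : twSub φ L) = 1 :=
  aOf_unique _ fun k => by
    rw [scTw_coe, sc_val, mul_smul_comm, smul_mul_assoc, one_mul, mul_one, MonoidHom.one_apply,
      Units.val_one, one_smul]

theorem exists_scalar_of_aOf {x : twSub φ L} (h : aOf x = 1) : ∃ c : ℂˣ, x = scTw c := by
  obtain ⟨c, hc⟩ := exists_scalar_of_commutes (φ := φ) (x : (Module.End ℂ W)ˣ) fun k => by
    rw [aOf_spec x k, h, MonoidHom.one_apply, Units.val_one, one_smul]
  exact ⟨c, Subtype.ext hc⟩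

theorem scTw_injective : Function.Injective (scTw : ℂˣ → twSub φ L) := by
  intro a b h
  haveI := nontrivial_W φ
  refine Units.ext (smul_cancel_unit (1 : (Module.End ℂ W)ˣ) ?_)
  have h1 := congrArg (fun z : twSub φ L => ((z : (Module.End ℂ W)ˣ) : Module.End ℂ W)) h
  simp only [scTw_coe, sc_val] at h1
  rw [Units.val_one]
  exact h1

theorem exists_comm_scalar (x y : twSub φ L) : ∃ c : ℂˣ, x * y * x⁻¹ * y⁻¹ = scTw c :=
  exists_scalar_of_aOf (show aHom (x * y * x⁻¹ * y⁻¹) = 1 by
    rw [map_mul, map_mul, map_mul, map_inv, map_inv, mul_inv_eq_one, mul_inv_eq_iff_eq_mul]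
    exact MonoidHom.ext fun k => mul_comm _ _)

/-- The commutator of two twisted units, as a scalar. -/
noncomputable def beta (x y : twSub φ L) : ℂˣ := (exists_comm_scalar x y).choose

theorem beta_spec (x y : twSub φ L) : x * y = scTw (beta x y) * (y * x) := by
  have h : x * y * x⁻¹ * y⁻¹ = scTw (beta x y) := (exists_comm_scalar x y).choose_spec
  rw [← h]
  group

theorem beta_unique {x y : twSub φ L} {c : ℂˣ} (h : x * y = scTw c * (y * x)) : beta x y = c :=
  scTw_injective (mul_right_cancel ((beta_spec x y).symm.trans h))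

theorem scTw_left_comm (c : ℂˣ) (x y : twSub φ L) : x * (scTw c * y) = scTw c * (x * y) := by
  rw [← mul_assoc, ← scTw_comm, mul_assoc]

theorem beta_mul_left (x x' y : twSub φ L) : beta (x * x') y = beta x y * beta x' y := by
  refine beta_unique ?_
  rw [mul_assoc x x' y, beta_spec x' y, scTw_left_comm, ← mul_assoc x y x', beta_spec x y,
    mul_assoc (scTw (beta x y)), mul_assoc y x x', ← mul_assoc (scTw (beta x' y)), ← map_mul,
    mul_comm (beta x' y)]

theorem beta_swap (x y : twSub φ L) : beta y x = (beta x y)⁻¹ := by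
  refine beta_unique ?_
  rw [beta_spec x y, ← mul_assoc, ← map_mul, inv_mul_cancel, map_one, one_mul]

theorem beta_mul_right (x y y' : twSub φ L) : beta x (y * y') = beta x y * beta x y' := by
  rw [beta_swap (y * y') x, beta_mul_left, mul_inv, ← beta_swap, ← beta_swap]

theorem beta_self (x : twSub φ L) : beta x x = 1 := beta_unique (by rw [map_one, one_mul])

theorem beta_scTw_left (c : ℂˣ) (y : twSub φ L) : beta (scTw c) y = 1 :=
  beta_unique (by rw [map_one, one_mul, scTw_comm])

theorem beta_pow_left (x y : twSub φ L) (n : ℕ) : beta (x ^ n) y = beta x y ^ n := by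
  induction n with
  | zero =>
    rw [pow_zero, pow_zero]
    exact beta_unique (by rw [map_one, one_mul, one_mul, mul_one])
  | succ n ih => rw [pow_succ, beta_mul_left, ih, pow_succ]

theorem hom_pow_card (a : K →* ℂˣ) : a ^ Nat.card K = 1 := by
  refine MonoidHom.ext fun k => ?_
  rw [MonoidHom.pow_apply, ← map_pow, pow_card_eq_one', map_one, MonoidHom.one_apply]

theorem beta_pow_card (x y : twSub φ L) : beta x y ^ Nat.card K = 1 := by
  obtain ⟨c, hc⟩ := exists_scalar_of_aOf (x := x ^ Nat.card K) (by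
    show aHom (x ^ Nat.card K) = 1
    rw [map_pow]
    exact hom_pow_card _)
  rw [← beta_pow_left, hc, beta_scTw_left]

/-- Half of the commutator. -/
noncomputable def gam (x y : twSub φ L) : ℂˣ := beta x y ^ ((Nat.card K + 1) / 2)

theorem gam_mul_left (x x' y : twSub φ L) : gam (x * x') y = gam x y * gam x' y := by
  simp only [gam, beta_mul_left, mul_pow]

theorem gam_mul_right (x y y' : twSub φ L) : gam x (y * y') = gam x y * gam x y' := by
  simp only [gam, beta_mul_right, mul_pow]

theorem gam_self (x : twSub φ L) : gam x x = 1 := by rw [gam, beta_self, one_pow]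

theorem gam_scTw_left (c : ℂˣ) (y : twSub φ L) : gam (scTw c) y = 1 := by
  rw [gam, beta_scTw_left, one_pow]

theorem gam_scTw_right (x : twSub φ L) (c : ℂˣ) : gam x (scTw c) = 1 := by
  rw [gam, beta_swap, beta_scTw_left, inv_one, one_pow]

theorem gam_swap (x y : twSub φ L) : gam y x = (gam x y)⁻¹ := by
  rw [gam, gam, beta_swap, inv_pow]

theorem gam_sq [hodd : Fact (Odd (Nat.card K))] (x y : twSub φ L) :
    gam x y * gam x y = beta x y := by
  rw [gam, ← pow_add]
  obtain ⟨m, hm⟩ := hodd.out
  rw [show (Nat.card K + 1) / 2 + (Nat.card K + 1) / 2 = Nat.card K + 1 by omega, pow_succ,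
    beta_pow_card, one_mul]

variable (φ L) in
/-- The twisted units with the product corrected by half of the commutator. -/
structure Baer where
  /-- The underlying twisted unit. -/
  val : twSub φ L

omit [φ.IsIrreducible] in
@[ext] theorem Baer.ext {x y : Baer φ L} (h : x.val = y.val) : x = y := by
  cases x; cases y; simp_all

variable [hodd : Fact (Odd (Nat.card K))]

noncomputable instance : Mul (Baer φ L) :=
  ⟨fun x y => ⟨scTw (gam y.val x.val) * (x.val * y.val)⟩⟩

theorem Baer.mul_val (x y : Baer φ L) :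
    (x * y).val = scTw (gam y.val x.val) * (x.val * y.val) := rfl

noncomputable instance : One (Baer φ L) := ⟨⟨1⟩⟩

noncomputable instance : Inv (Baer φ L) := ⟨fun x => ⟨x.val⁻¹⟩⟩

theorem Baer.one_val : (1 : Baer φ L).val = 1 := rfl

theorem Baer.inv_val (x : Baer φ L) : (x⁻¹).val = x.val⁻¹ := rfl

theorem gam_one_left (y : twSub φ L) : gam 1 y = 1 := by
  rw [← map_one (scTw : ℂˣ →* twSub φ L), gam_scTw_left]

theorem gam_one_right (x : twSub φ L) : gam x 1 = 1 := by
  rw [← map_one (scTw : ℂˣ →* twSub φ L), gam_scTw_right]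

theorem gam_inv_right_self (x : twSub φ L) : gam x x⁻¹ = 1 := by
  have h := gam_mul_right x x x⁻¹
  rw [mul_inv_cancel, gam_one_right, gam_self, one_mul] at h
  exact h.symm

noncomputable instance : CommGroup (Baer φ L) where
  mul_assoc x y z := by
    refine Baer.ext ?_
    simp only [Baer.mul_val, gam_mul_left, gam_mul_right, gam_scTw_left, gam_scTw_right, one_mul]
    rw [mul_assoc (scTw (gam y.val x.val)), scTw_left_comm (gam z.val y.val), mul_assoc x.val,
      ← mul_assoc (scTw (gam z.val x.val * gam z.val y.val)), ← map_mul,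
      ← mul_assoc (scTw (gam y.val x.val * gam z.val x.val)), ← map_mul]
    congr 2
    ac_rfl
  one_mul x := Baer.ext (by
    rw [Baer.mul_val, Baer.one_val, gam_one_right, map_one, one_mul, one_mul])
  mul_one x := Baer.ext (by
    rw [Baer.mul_val, Baer.one_val, gam_one_left, map_one, one_mul, mul_one])
  inv_mul_cancel x := Baer.ext (by
    rw [Baer.mul_val, Baer.inv_val, Baer.one_val, gam_inv_right_self, map_one, one_mul,
      inv_mul_cancel])
  mul_comm x y := Baer.ext (by
    rw [Baer.mul_val, Baer.mul_val, beta_spec x.val y.val, ← mul_assoc, ← map_mul]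
    congr 2
    rw [← gam_sq x.val y.val, gam_swap x.val y.val, inv_mul_cancel_left])

/-- The scalars in the corrected group. -/
noncomputable def scBaer : ℂˣ →* Baer φ L :=
  MonoidHom.mk' (fun c => ⟨scTw c⟩) fun c d => Baer.ext (by
    rw [Baer.mul_val, gam_scTw_left, map_one, one_mul, map_mul])

theorem scBaer_val (c : ℂˣ) : (scBaer c : Baer φ L).val = scTw c := rfl

/-- The linear character of a corrected twisted unit. -/
noncomputable def aBaer : Baer φ L →* (K →* ℂˣ) :=
  MonoidHom.mk' (fun x => aOf x.val) fun x y => by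
    rw [Baer.mul_val, aOf_mul, aOf_scTw, aOf_mul]
    exact MonoidHom.ext fun k => one_mul _

theorem aBaer_apply (x : Baer φ L) : aBaer x = aOf x.val := rfl

theorem exists_scBaer_of_aBaer {x : Baer φ L} (h : aBaer x = 1) : ∃ c : ℂˣ, x = scBaer c := by
  obtain ⟨c, hc⟩ := exists_scalar_of_aOf (x := x.val) h
  exact ⟨c, Baer.ext hc⟩

end CfsgLib.ParityCorr
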