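import Cfsg.Agent.Lib.ParityCorr.Commutant

/-!
# The canonical parity operator

Operators of order prime to `|K|` without fixed linear characters on `K ⧸ L` single out a lift of
every character in the inertia group; the sum of the lifts inverts the section and squares to a
scalar.
-/

namespace CfsgLib.ParityCorr

open Cfsg CfsgLib.CharTheory

set_option linter.unusedVariables false
set_option linter.unusedSectionVars false
set_option linter.style.haveILetI false

universe u v w

variable {K : Type u} [Group K] [Fintype K]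
variable {W : Type v} [AddCommGroup W] [Module ℂ W] [FiniteDimensional ℂ W]
variable (φ : Representation ℂ K W) (L : Subgroup K)

/-- The automorphisms preserving `L` and the character of `φ`. -/
def symSub : Subgroup (MulAut K) where
  carrier := {τ | (∀ k, φ.character (τ k) = φ.character k) ∧ ∀ l, τ l ∈ L ↔ l ∈ L}
  one_mem' := ⟨fun k => rfl, fun l => Iff.rfl⟩
  mul_mem' := fun {a b} ha hb =>
    ⟨fun k => (ha.1 (b k)).trans (hb.1 k), fun l => (ha.2 (b l)).trans (hb.2 l)⟩
  inv_mem' := fun {a} ha => ⟨fun k => by simpa using (ha.1 (a⁻¹ k)).symm,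
    fun l => by simpa using (ha.2 (a⁻¹ l)).symm⟩

variable {φ L} [φ.IsIrreducible] [L.Normal]

/-- The automorphism of the endomorphism algebra induced by `τ`. -/
noncomputable def sig (τ : symSub φ L) : Module.End ℂ W →ₗ[ℂ] Module.End ℂ W :=
  theta φ (φ.comp ((τ : MulAut K).toMonoidHom))

theorem char_comp_eq (τ : symSub φ L) (k : K) :
    Representation.character (φ.comp ((τ : MulAut K).toMonoidHom)) k = 1 * φ.character k := by
  rw [one_mul]
  exact τ.2.1 k

theorem sig_rep (τ : symSub φ L) (k : K) : sig τ (φ k) = φ ((τ : MulAut K) k) :=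
  theta_rep φ _ (char_comp_eq τ) k

theorem sig_mul (τ : symSub φ L) (M N : Module.End ℂ W) : sig τ (M * N) = sig τ M * sig τ N :=
  theta_mul φ _ (char_comp_eq τ) M N

theorem sig_one (τ : symSub φ L) : sig τ (1 : Module.End ℂ W) = 1 :=
  theta_one φ _ (char_comp_eq τ)

theorem sig_comp (τ τ' : symSub φ L) (M : Module.End ℂ W) :
    sig (τ * τ') M = sig τ (sig τ' M) := by
  have h : sig (τ * τ') = (sig τ).comp (sig τ') := linear_ext φ fun k => by
    rw [LinearMap.comp_apply, sig_rep, sig_rep, sig_rep]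
    rfl
  exact LinearMap.congr_fun h M

/-- The induced map of units. -/
noncomputable def sigUnit (τ : symSub φ L) : (Module.End ℂ W)ˣ →* (Module.End ℂ W)ˣ :=
  Units.map ⟨⟨sig τ, sig_one τ⟩, sig_mul τ⟩

theorem sigUnit_val (τ : symSub φ L) (u : (Module.End ℂ W)ˣ) :
    ((sigUnit τ u : (Module.End ℂ W)ˣ) : Module.End ℂ W) = sig τ (u : Module.End ℂ W) := rfl

theorem sigUnit_mem (τ : symSub φ L) {u : (Module.End ℂ W)ˣ} (hu : u ∈ twSub φ L) :
    sigUnit τ u ∈ twSub φ L := by
  obtain ⟨hL, a, ha⟩ := hu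
  refine ⟨fun l hl => ?_, a.comp ((τ⁻¹ : symSub φ L) : MulAut K).toMonoidHom, fun k => ?_⟩
  · have h1 := congrArg (sig τ) (hL ((τ : MulAut K)⁻¹ l) ((τ⁻¹).2.2 l |>.2 hl))
    rw [sig_mul, sig_mul, sig_rep, MulAut.apply_inv_self] at h1
    exact h1
  · have h1 := congrArg (sig τ) (ha ((τ : MulAut K)⁻¹ k))
    rw [map_smul, sig_mul, sig_mul, sig_rep, MulAut.apply_inv_self] at h1
    exact h1

/-- The induced map of twisted units. -/
noncomputable def twMap (τ : symSub φ L) : twSub φ L →* twSub φ L where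
  toFun x := ⟨sigUnit τ x, sigUnit_mem τ x.2⟩
  map_one' := Subtype.ext (map_one _)
  map_mul' x y := Subtype.ext (map_mul _ _ _)

theorem aOf_twMap (τ : symSub φ L) (x : twSub φ L) :
    aOf (twMap τ x) = (aOf x).comp ((τ⁻¹ : symSub φ L) : MulAut K).toMonoidHom := by
  refine aOf_unique _ fun k => ?_
  have h1 := congrArg (sig τ) (aOf_spec x ((τ : MulAut K)⁻¹ k))
  rw [map_smul, sig_mul, sig_mul, sig_rep, MulAut.apply_inv_self] at h1
  exact h1

theorem twMap_scTw (τ : symSub φ L) (c : ℂˣ) : twMap τ (scTw c) = scTw c := by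
  refine Subtype.ext (Units.ext ?_)
  show sig τ (sc c : (Module.End ℂ W)ˣ) = _
  rw [scTw_coe, sc_val, map_smul, sig_one]

theorem beta_twMap (τ : symSub φ L) (x y : twSub φ L) :
    beta (twMap τ x) (twMap τ y) = beta x y :=
  beta_unique (by rw [← map_mul, ← map_mul, beta_spec x y, map_mul, twMap_scTw])

variable [hodd : Fact (Odd (Nat.card K))]

/-- The induced map of the corrected group. -/
noncomputable def bMap (τ : symSub φ L) : Baer φ L →* Baer φ L :=
  MonoidHom.mk' (fun x => ⟨twMap τ x.val⟩) fun x y => Baer.ext (by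
    rw [Baer.mul_val, Baer.mul_val, map_mul, map_mul, twMap_scTw, gam, gam, beta_twMap])

theorem bMap_val (τ : symSub φ L) (x : Baer φ L) : (bMap τ x).val = twMap τ x.val := rfl

theorem bMap_comp (τ τ' : symSub φ L) (x : Baer φ L) :
    bMap (τ * τ') x = bMap τ (bMap τ' x) :=
  Baer.ext (Subtype.ext (Units.ext (sig_comp τ τ' _)))

theorem bMap_scBaer (τ : symSub φ L) (c : ℂˣ) : bMap τ (scBaer c) = scBaer c :=
  Baer.ext (twMap_scTw τ c)

theorem aBaer_bMap (τ : symSub φ L) (x : Baer φ L) :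
    aBaer (bMap τ x) = (aBaer x).comp ((τ⁻¹ : symSub φ L) : MulAut K).toMonoidHom :=
  aOf_twMap τ x.val

variable {S : Type w} [Group S] [Fintype S] (σ : S →* symSub φ L)

/-- The projection off the scalars. -/
noncomputable def yMap : Baer φ L →* Baer φ L :=
  MonoidHom.mk' (fun x => x ^ Fintype.card S * (∏ s : S, bMap (σ s) x)⁻¹) fun x y => by
    simp only [map_mul, Finset.prod_mul_distrib, mul_pow, mul_inv]
    exact mul_mul_mul_comm _ _ _ _

theorem yMap_apply (x : Baer φ L) :
    yMap σ x = x ^ Fintype.card S * (∏ s : S, bMap (σ s) x)⁻¹ := rfl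

theorem yMap_scBaer (c : ℂˣ) : yMap σ (scBaer c) = 1 := by
  rw [yMap_apply]
  simp only [bMap_scBaer, Finset.prod_const, Finset.card_univ, mul_inv_cancel]

theorem bMap_yMap (τ : symSub φ L) (hτ : ∀ s, τ * σ s = σ s * τ) (x : Baer φ L) :
    bMap τ (yMap σ x) = yMap σ (bMap τ x) := by
  simp only [yMap_apply, map_mul, map_pow, map_inv, map_prod, ← bMap_comp, hτ]

/-- No linear character of the section is fixed by the operators. -/
def NoFixed : Prop :=
  ∀ a ∈ dualTop L, (∀ (s : S) (k : K), a ((σ s : MulAut K) k) = a k) → a = 1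

variable {σ}

theorem aBaer_yMap (hfix : NoFixed σ) (x : Baer φ L) :
    aBaer (yMap σ x) = aBaer x ^ Fintype.card S := by
  have hP : aBaer (∏ s : S, bMap (σ s) x) = 1 := by
    refine hfix _ (aOf_mem_delta φ _).1 fun t k => ?_
    rw [map_prod]
    simp only [aBaer_bMap, MonoidHom.finsetProd_apply, MonoidHom.comp_apply]
    refine Fintype.prod_equiv (Equiv.mulLeft t⁻¹) _ _ fun s => ?_
    rw [Equiv.coe_mulLeft, map_mul, map_inv, mul_inv_rev, inv_inv]
    rfl
  rw [yMap_apply, map_mul, map_pow, map_inv, hP]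
  exact MonoidHom.ext fun k => by simp

theorem pow_card_inj (hcop : (Fintype.card S).Coprime (Nat.card K)) {a b : K →* ℂˣ}
    (h : a ^ Fintype.card S = b ^ Fintype.card S) : a = b := by
  refine MonoidHom.ext fun k => ?_
  have h0 := DFunLike.congr_fun h k
  rw [MonoidHom.pow_apply, MonoidHom.pow_apply] at h0
  have hK : ∀ c : K →* ℂˣ, c k ^ Nat.card K = 1 := fun c => by
    rw [← map_pow, pow_card_eq_one', map_one]
  have h1 : (a k * (b k)⁻¹) ^ Fintype.card S = 1 := by
    rw [mul_pow, inv_pow, h0, mul_inv_cancel]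
  have h2 : (a k * (b k)⁻¹) ^ Nat.card K = 1 := by
    rw [mul_pow, inv_pow, hK, hK, inv_one, mul_one]
  exact mul_inv_eq_one.1 (orderOf_eq_one_iff.1 (Nat.eq_one_of_dvd_coprimes hcop
    (orderOf_dvd_of_pow_eq_one h1) (orderOf_dvd_of_pow_eq_one h2)))

theorem exists_root (hcop : (Fintype.card S).Coprime (Nat.card K)) (b : delta L φ) :
    ∃ x : Baer φ L, aBaer x ^ Fintype.card S = (b : K →* ℂˣ) := by
  have hord : (Fintype.card S).Coprime (orderOf (b : K →* ℂˣ)) :=
    hcop.coprime_dvd_right (orderOf_dvd_of_pow_eq_one (hom_pow_card _))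
  obtain ⟨j, hj⟩ := exists_pow_eq_self_of_coprime hord
  obtain ⟨x, hx⟩ := exists_lift φ ((delta L φ).pow_mem b.2 j)
  refine ⟨⟨x⟩, ?_⟩
  rw [aBaer_apply, hx, ← pow_mul, mul_comm, pow_mul]
  exact hj

variable (σ) in
/-- The canonical lift of a character of the inertia group. -/
noncomputable def lift (hcop : (Fintype.card S).Coprime (Nat.card K)) (b : delta L φ) : Baer φ L :=
  yMap σ (exists_root hcop b).choose

theorem lift_eq {hcop : (Fintype.card S).Coprime (Nat.card K)} {b : delta L φ} {x : Baer φ L}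
    (hx : aBaer x ^ Fintype.card S = (b : K →* ℂˣ)) : lift σ hcop b = yMap σ x := by
  have h0 := (exists_root hcop b).choose_spec
  have h1 : aBaer (((exists_root hcop b).choose) * x⁻¹) = 1 := by
    rw [map_mul, map_inv, pow_card_inj hcop (h0.trans hx.symm), mul_inv_cancel]
  obtain ⟨c, hc⟩ := exists_scBaer_of_aBaer h1
  rw [lift, mul_inv_eq_iff_eq_mul.1 hc, map_mul, yMap_scBaer, one_mul]

variable (hfix : NoFixed σ) (hcop : (Fintype.card S).Coprime (Nat.card K))

include hfix in
theorem aBaer_lift (b : delta L φ) : aBaer (lift σ hcop b) = (b : K →* ℂˣ) := by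
  rw [lift, aBaer_yMap hfix]
  exact (exists_root hcop b).choose_spec

theorem lift_mul (b c : delta L φ) :
    lift σ hcop (b * c) = lift σ hcop b * lift σ hcop c := by
  rw [lift_eq (x := (exists_root hcop b).choose * (exists_root hcop c).choose), map_mul]
  · rfl
  · rw [map_mul]
    refine (mul_pow (aBaer (φ := φ) (L := L) _) _ _).trans ?_
    rw [(exists_root hcop b).choose_spec, (exists_root hcop c).choose_spec]
    rfl

theorem lift_one : lift σ hcop (1 : delta L φ) = 1 := by
  have h := lift_mul (σ := σ) hcop 1 1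
  rw [one_mul] at h
  exact mul_eq_left.1 h.symm

/-- The action of an automorphism on the inertia group. -/
noncomputable def dMap (τ : symSub φ L) : delta L φ ≃ delta L φ where
  toFun b := ⟨(b : K →* ℂˣ).comp ((τ⁻¹ : symSub φ L) : MulAut K).toMonoidHom,
    fun l hl => b.2.1 _ ((τ⁻¹).2.2 l |>.2 hl), fun k => by
      rw [← (τ⁻¹).2.1 k]; exact b.2.2 _⟩
  invFun b := ⟨(b : K →* ℂˣ).comp (τ : MulAut K).toMonoidHom,
    fun l hl => b.2.1 _ (τ.2.2 l |>.2 hl), fun k => by
      rw [← τ.2.1 k]; exact b.2.2 _⟩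
  left_inv b := Subtype.ext (MonoidHom.ext fun k => by simp)
  right_inv b := Subtype.ext (MonoidHom.ext fun k => by simp)

include hfix in
theorem bMap_lift (τ : symSub φ L) (hτ : ∀ s, τ * σ s = σ s * τ) (b : delta L φ) :
    bMap τ (lift σ hcop b) = lift σ hcop (dMap τ b) := by
  conv_lhs => rw [lift, bMap_yMap σ τ hτ]
  refine (lift_eq ?_).symm
  rw [aBaer_bMap]
  show _ = (b : K →* ℂˣ).comp _
  refine MonoidHom.ext fun k => ?_
  rw [MonoidHom.pow_apply, MonoidHom.comp_apply, MonoidHom.comp_apply, ← MonoidHom.pow_apply,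
    (exists_root hcop b).choose_spec]

/-- The lift as an endomorphism. -/
noncomputable def yEnd (b : delta L φ) : Module.End ℂ W :=
  (((lift σ hcop b).val : twSub φ L) : (Module.End ℂ W)ˣ)

/-- The cocycle of the lifts. -/
noncomputable def kap (b c : delta L φ) : ℂ :=
  (gam (lift σ hcop c).val (lift σ hcop b).val : ℂˣ)

theorem yEnd_mul (b c : delta L φ) :
    kap (σ := σ) hcop b c • (yEnd (σ := σ) hcop b * yEnd (σ := σ) hcop c) =
      yEnd (σ := σ) hcop (b * c) := by
  rw [yEnd, yEnd, yEnd, lift_mul, Baer.mul_val, Subgroup.coe_mul, Units.val_mul, scTw_coe, sc_val,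
    smul_one_mul, Subgroup.coe_mul, Units.val_mul, kap]

theorem yEnd_one : yEnd (σ := σ) hcop 1 = (1 : Module.End ℂ W) := by
  rw [yEnd, lift_one, Baer.one_val, Subgroup.coe_one, Units.val_one]

include hfix in
theorem trace_yEnd (b : delta L φ) (hb : b ≠ 1) :
    LinearMap.trace ℂ W (yEnd (σ := σ) hcop b) = 0 := by
  obtain ⟨k, hk⟩ : ∃ k, (b : K →* ℂˣ) k ≠ 1 := by
    by_contra hno
    push Not at hno
    exact hb (Subtype.ext (MonoidHom.ext hno))
  have h := congrArg (fun X => LinearMap.trace ℂ W (X * φ k⁻¹))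
    (aOf_spec ((lift σ hcop b).val) k)
  simp only [smul_mul_assoc, map_smul, smul_eq_mul] at h
  rw [LinearMap.trace_mul_comm, ← mul_assoc, ← map_mul, inv_mul_cancel, map_one, one_mul,
    mul_assoc, ← map_mul, mul_inv_cancel, map_one, mul_one, ← aBaer_apply, aBaer_lift hfix hcop]
    at h
  change LinearMap.trace ℂ W (yEnd (σ := σ) hcop b) =
    ((b : K →* ℂˣ) k : ℂ) * LinearMap.trace ℂ W (yEnd (σ := σ) hcop b) at h
  by_contra hne
  exact hk (Units.ext ((mul_eq_right₀ hne).1 h.symm))

/-- The unnormalized parity operator. -/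
noncomputable def parity₀ [Fintype (delta L φ)] : Module.End ℂ W :=
  ∑ b : delta L φ, yEnd (σ := σ) hcop b

include hfix in
theorem sig_parity₀ [Fintype (delta L φ)] (τ : symSub φ L) (hτ : ∀ s, τ * σ s = σ s * τ) :
    sig τ (parity₀ (σ := σ) hcop) = parity₀ (σ := σ) hcop := by
  rw [parity₀, map_sum]
  refine Fintype.sum_equiv (dMap τ) _ _ fun b => ?_
  rw [yEnd, yEnd, ← bMap_lift hfix hcop τ hτ b]
  rfl

end CfsgLib.ParityCorr
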