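import Cfsg.Agent.Lib.ParityCorr.Inertia

/-!
# The parity correspondence
-/

namespace CfsgLib.ParityCorr

open Cfsg CfsgLib.CharTheory CfsgLib.Glauberman
open scoped ComplexConjugate

set_option linter.unusedVariables false
set_option linter.unusedSectionVars false
set_option linter.style.haveILetI false

universe u w

variable {G : Type u} [Group G] [Fintype G] {S : Type w} [Group S] [Fintype S]
variable {φS : S →* MulAut G} {K L H : Subgroup G}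

namespace Setup

variable [K.Normal] [L.Normal] [Fintype K] [Fintype L] [Fintype H]

/-- The correspondence over one invariant character. -/
theorem correspondence_at (D : Setup φS K L H) (hsolv : Group.IsSolvable G) {θ : L → ℂ}
    (hθ : IsIrrCharacter L θ) (hi : InvOn φS L θ) :
    (∀ χ : IrrCharacter G, Inv φS (χ : G → ℂ) →
      classInner (fun l : L => (χ : G → ℂ) l) θ ≠ 0 →
      ∃ ψ : IrrCharacter H, InvOn φS H (ψ : H → ℂ) ∧
        (∃ m : ℕ, classInner (fun h : H => (χ : G → ℂ) h) (ψ : H → ℂ) = m ∧ Odd m) ∧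
        ∀ η : IrrCharacter H, InvOn φS H (η : H → ℂ) →
          classInner (fun l : L => (η : H → ℂ) ⟨l, D.leH l.2⟩) θ ≠ 0 → ∀ m : ℕ,
          classInner (fun h : H => (χ : G → ℂ) h) (η : H → ℂ) = m → Odd m → η = ψ) ∧
    (∀ χ χ' : IrrCharacter G, Inv φS (χ : G → ℂ) → Inv φS (χ' : G → ℂ) →
      classInner (fun l : L => (χ : G → ℂ) l) θ ≠ 0 →
      classInner (fun l : L => (χ' : G → ℂ) l) θ ≠ 0 →
      ∀ ψ : IrrCharacter H, InvOn φS H (ψ : H → ℂ) →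
        classInner (fun l : L => (ψ : H → ℂ) ⟨l, D.leH l.2⟩) θ ≠ 0 → ∀ m m' : ℕ,
        classInner (fun h : H => (χ : G → ℂ) h) (ψ : H → ℂ) = m → Odd m →
        classInner (fun h : H => (χ' : G → ℂ) h) (ψ : H → ℂ) = m' → Odd m' → χ = χ') ∧
    (∀ ψ : IrrCharacter H, InvOn φS H (ψ : H → ℂ) →
      classInner (fun l : L => (ψ : H → ℂ) ⟨l, D.leH l.2⟩) θ ≠ 0 →
      ∃ χ : IrrCharacter G, Inv φS (χ : G → ℂ) ∧
        ∃ m : ℕ, classInner (fun h : H => (χ : G → ℂ) h) (ψ : H → ℂ) = m ∧ Odd m) := by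
  classical
  set T := inertia L θ with hT
  have hLT : L ≤ T := le_inertia L (isClassFunction_irr hθ)
  have hTS : ∀ s, ∀ x ∈ T, φS s x ∈ T := fun s => D.inertia_stable hi s
  haveI := Fintype.ofFinite T
  set K1 := K.subgroupOf T
  set L1 := L.subgroupOf T
  set H1 := H.subgroupOf T
  haveI : K1.Normal := D.normK.subgroupOf T
  haveI : L1.Normal := D.normL.subgroupOf T
  haveI := Fintype.ofFinite K1
  haveI := Fintype.ofFinite L1
  haveI := Fintype.ofFinite H1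
  have D1 : Setup (restrictHom φS T hTS) K1 L1 H1 := D.onInertia hsolv hθ hi
  set θ1 : L1 → ℂ := fun x => θ ⟨((x : T) : G), Subgroup.mem_subgroupOf.mp x.2⟩ with hθ1
  obtain ⟨cA, cB, cC⟩ := D1.correspondence (isIrr_subgroupOf L hLT hθ)
    (fun t => funext fun x =>
      congrFun ((mem_inertia L).1 t.2) ⟨((x : T) : G), Subgroup.mem_subgroupOf.mp x.2⟩)
    (fun s x y hxy => hi s ⟨((x : T) : G), Subgroup.mem_subgroupOf.mp x.2⟩
      ⟨((y : T) : G), Subgroup.mem_subgroupOf.mp y.2⟩ (congrArg Subtype.val hxy))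
  -- the same inside `H`
  set L2 := L.subgroupOf H
  set T2 := T.subgroupOf H with hT2
  haveI : L2.Normal := D.normL.subgroupOf H
  haveI := Fintype.ofFinite L2
  haveI := Fintype.ofFinite T2
  set θ2 : L2 → ℂ := fun x => θ ⟨((x : H) : G), Subgroup.mem_subgroupOf.mp x.2⟩ with hθ2
  have hθ2i : IsIrrCharacter L2 θ2 := isIrr_subgroupOf L D.leH hθ
  set φH := restrictHom φS H D.stabH
  have hθ2S : InvOn φH L2 θ2 := fun s x y hxy =>
    hi s ⟨((x : H) : G), Subgroup.mem_subgroupOf.mp x.2⟩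
      ⟨((y : H) : G), Subgroup.mem_subgroupOf.mp y.2⟩ (congrArg Subtype.val hxy)
  have hL2S : ∀ s, ∀ x ∈ L2, φH s x ∈ L2 := fun s x hx => D.stabL s (x : G) hx
  have hT2S : ∀ s, ∀ x ∈ T2, φH s x ∈ T2 := fun s x hx => hTS s (x : G) hx
  have hLT2 : L2 ≤ T2 := fun x hx => hLT hx
  have hin2 : T2 = inertia L2 θ2 := by
    ext h
    rw [mem_inertia, hT2, Subgroup.mem_subgroupOf, hT, mem_inertia]
    constructor
    · intro e; funext x
      exact congrFun e ⟨((x : H) : G), Subgroup.mem_subgroupOf.mp x.2⟩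
    · intro e; funext n
      exact congrFun e ⟨⟨(n : G), D.leH n.2⟩, n.2⟩
  let e2 : T2 ≃* H1 :=
    { toFun := fun x => ⟨⟨((x : H) : G), x.2⟩, (x : H).2⟩
      invFun := fun y => ⟨⟨((y : T) : G), y.2⟩, (y : T).2⟩
      left_inv := fun x => rfl
      right_inv := fun y => rfl
      map_mul' := fun a b => rfl }
  let κ : T2 →* T := (Subgroup.subtype H1).comp e2.toMonoidHom
  let ι : L →* T2 :=
    { toFun := fun n => ⟨⟨(n : G), D.leH n.2⟩, hLT n.2⟩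
      map_one' := rfl
      map_mul' := fun a b => rfl }
  let eL2 : L2 ≃* L := Subgroup.subgroupOfEquivOfLe D.leH
  let eL1 : L1 ≃* L := Subgroup.subgroupOfEquivOfLe hLT
  have hov1 : ∀ η1 : H1 → ℂ,
      classInner (fun l : L1 => η1 ⟨l, D1.leH l.2⟩) θ1 =
        classInner (fun n : L => η1 (e2 (ι n))) θ := fun η1 =>
    CfsgLib.FullyRamified.classInner_equiv eL1 (fun n : L => η1 (e2 (ι n))) θ
  have hov2 : ∀ η2 : T2 → ℂ,
      classInner (fun l : L2 => η2 ⟨l, hLT2 l.2⟩) θ2 =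
        classInner (fun n : L => η2 (ι n)) θ := fun η2 =>
    CfsgLib.FullyRamified.classInner_equiv eL2 (fun n : L => η2 (ι n)) θ
  have hovT : ∀ ξ : T → ℂ,
      classInner (fun l : L1 => ξ l) θ1 = classInner (fun n : L => ξ ⟨n, hLT n.2⟩) θ := fun ξ =>
    CfsgLib.FullyRamified.classInner_equiv eL1 (fun n : L => ξ ⟨n, hLT n.2⟩) θ
  have hovH : ∀ ψ : H → ℂ,
      classInner (fun l : L2 => ψ l) θ2 = classInner (fun n : L => ψ ⟨n, D.leH n.2⟩) θ :=
    fun ψ => CfsgLib.FullyRamified.classInner_equiv eL2 (fun n : L => ψ ⟨n, D.leH n.2⟩) θ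
  -- from an invariant `ψ` to the inertia group
  have down : ∀ ψ : IrrCharacter H, InvOn φS H (ψ : H → ℂ) →
      classInner (fun l : L => (ψ : H → ℂ) ⟨l, D.leH l.2⟩) θ ≠ 0 →
      ∃ η : IrrCharacter H1, InvOn (restrictHom φS T hTS) H1 (η : H1 → ℂ) ∧
        classInner (fun l : L1 => (η : H1 → ℂ) ⟨l, D1.leH l.2⟩) θ1 ≠ 0 ∧
        indFun T2 (fun x => (η : H1 → ℂ) (e2 x)) = ψ := by
    intro ψ hψ hψθ
    obtain ⟨η2, hη2, hη2θ, hind⟩ := exists_inv_pre L2 φH hθ2i hL2S hθ2S hLT2 hin2 hT2S ψ.2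
      (fun s h => hψ s h _ rfl) (by rw [hovH]; exact hψθ)
    refine ⟨⟨_, isIrrCharacter_comp_surjective η2.2 e2.symm.toMonoidHom e2.symm.surjective⟩,
      fun s x y hxy => ?_, ?_, ?_⟩
    · exact hη2 s (e2.symm x) (e2.symm y) (Subtype.ext (by exact congrArg Subtype.val hxy :))
    · rw [hov1]
      rw [hov2] at hη2θ
      simpa using hη2θ
    · rw [← hind]
      simp
  have up : ∀ η : IrrCharacter H1, InvOn (restrictHom φS T hTS) H1 (η : H1 → ℂ) →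
      classInner (fun l : L1 => (η : H1 → ℂ) ⟨l, D1.leH l.2⟩) θ1 ≠ 0 →
      ∃ ψ : IrrCharacter H, InvOn φS H (ψ : H → ℂ) ∧
        indFun T2 (fun x => (η : H1 → ℂ) (e2 x)) = ψ := by
    intro η hη hηθ
    have hirr := isIrrCharacter_comp_surjective η.2 e2.toMonoidHom e2.surjective
    have hc : classInner (fun l : L2 => (η : H1 → ℂ) (e2 ⟨l, hLT2 l.2⟩)) θ2 ≠ 0 := by
      rw [hov2 fun x => (η : H1 → ℂ) (e2 x), ← hov1]
      exact hηθ
    refine ⟨⟨_, (clifford_correspondence L2 hθ2i hLT2 hin2 hirr hc).1⟩, fun s x y hxy => ?_, rfl⟩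
    have h := inv_indFun L2 φH hθ2i hLT2 hin2 hT2S hirr (fun s x y hxy' =>
      hη s (e2 x) (e2 y) (Subtype.ext (congrArg (fun z : H => (z : G)) hxy'))) hc
    rw [show y = φH s x from Subtype.ext hxy]
    exact h s x
  -- multiplicities
  have hmult : ∀ (χ : IrrCharacter G) (ξ : IrrCharacter T),
      classInner (fun n : L => (ξ : T → ℂ) ⟨n, hLT n.2⟩) θ ≠ 0 →
      indFun T (ξ : T → ℂ) = χ → ∀ η : IrrCharacter H1,
      classInner (fun l : L1 => (η : H1 → ℂ) ⟨l, D1.leH l.2⟩) θ1 ≠ 0 → ∀ ψ : H → ℂ,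
      indFun T2 (fun x => (η : H1 → ℂ) (e2 x)) = ψ →
      classInner (fun h : H => (χ : G → ℂ) h) ψ =
        classInner (fun h : H1 => (ξ : T → ℂ) h) (η : H1 → ℂ) := by
    intro χ ξ hξθ hind η hηθ ψ hψ
    rw [← classInner_comm, ← hψ,
      frobenius_reciprocity T2 _
        (isClassFunction_char (isCharacter_restrict (isCharacter_of_irr χ.2) H)),
      classInner_comm]
    refine (inner_corresp L hθ hLT hT χ.2 ξ.2 hξθ hind κ ι (fun n => rfl)
      (isIrrCharacter_comp_surjective η.2 e2.toMonoidHom e2.surjective)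
      (by rw [hov1] at hηθ; exact hηθ)).trans ?_
    exact CfsgLib.FullyRamified.classInner_equiv e2 (fun h : H1 => (ξ : T → ℂ) h) (η : H1 → ℂ)
  have toT : ∀ χ : IrrCharacter G, Inv φS (χ : G → ℂ) →
      classInner (fun l : L => (χ : G → ℂ) l) θ ≠ 0 →
      ∃ ξ : IrrCharacter T, Inv (restrictHom φS T hTS) (ξ : T → ℂ) ∧
        classInner (fun n : L => (ξ : T → ℂ) ⟨n, hLT n.2⟩) θ ≠ 0 ∧
        classInner (fun l : L1 => (ξ : T → ℂ) l) θ1 ≠ 0 ∧
        indFun T (ξ : T → ℂ) = χ := by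
    intro χ hχ hχθ
    obtain ⟨ξ, hξ, hξθ, hind⟩ := exists_inv_pre L φS hθ D.stabL hi hLT hT hTS χ.2 hχ hχθ
    exact ⟨ξ, fun s t => hξ s t _ rfl, hξθ, by rwa [hovT], hind⟩
  refine ⟨fun χ hχ hχθ => ?_, fun χ χ' hχ hχ' hθa hθb ψ hψ hψθ m m' hm hmo hm' hmo' => ?_,
    fun ψ hψ hψθ => ?_⟩
  · obtain ⟨ξ, hξ, hξθ, hξθ1, hind⟩ := toT χ hχ hχθ
    obtain ⟨η, hη, hηθ, hodd⟩ := cA ξ hξ hξθ1
    obtain ⟨ψ, hψ, hindη⟩ := up η hη hηθ
    obtain ⟨m, hm⟩ := classInner_char_nat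
      (isCharacter_restrict (isCharacter_of_irr ξ.2) H1) (isCharacter_of_irr η.2)
    refine ⟨ψ, hψ, ⟨m, ?_, (hodd η m hm).2 rfl⟩, fun ψ' hψ' hψ'θ n hn hno => ?_⟩
    · rw [hmult χ ξ hξθ hind η hηθ _ hindη, hm]
    · obtain ⟨η', hη', hη'θ, hindη'⟩ := down ψ' hψ' hψ'θ
      rw [hmult χ ξ hξθ hind η' hη'θ _ hindη'] at hn
      refine Subtype.ext ?_
      rw [← hindη', ← hindη, (hodd η' n hn).1 hno]
  · obtain ⟨ξ, hξ, hξθ, hξθ1, hind⟩ := toT χ hχ hθa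
    obtain ⟨ξ', hξ', hξθ', hξθ1', hind'⟩ := toT χ' hχ' hθb
    obtain ⟨η, hη, hηθ, hindη⟩ := down ψ hψ hψθ
    rw [hmult χ ξ hξθ hind η hηθ _ hindη] at hm
    rw [hmult χ' ξ' hξθ' hind' η hηθ _ hindη] at hm'
    refine Subtype.ext ?_
    rw [← hind, ← hind', cB ξ ξ' hξ hξ' hξθ1 hξθ1' η m m' hm hmo hm' hmo']
  · obtain ⟨η, hη, hηθ, hindη⟩ := down ψ hψ hψθ
    obtain ⟨ξ, hξ, hξθ1, m, hm, hmo⟩ := cC η hη hηθ
    have hξθ : classInner (fun n : L => (ξ : T → ℂ) ⟨n, hLT n.2⟩) θ ≠ 0 := by rwa [← hovT]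
    refine ⟨⟨_, (clifford_correspondence L hθ hLT hT ξ.2 hξθ).1⟩,
      inv_indFun L φS hθ hLT hT hTS ξ.2 (fun s x y hxy => ?_) hξθ, m, ?_, hmo⟩
    · rw [show y = restrictHom φS T hTS s x from Subtype.ext hxy]
      exact hξ s x
    · rw [hmult ⟨_, (clifford_correspondence L hθ hLT hT ξ.2 hξθ).1⟩ ξ hξθ rfl η hηθ _ hindη, hm]

/-- The correspondence when the section has no fixed points. -/
theorem main (D : Setup φS K L H) (hsolv : Group.IsSolvable G) :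
    (∀ χ : IrrCharacter G, Inv φS (χ : G → ℂ) →
      ∃! ψ : IrrCharacter H, InvOn φS H (ψ : H → ℂ) ∧
        ∃ m : ℕ, classInner (fun h : H => (χ : G → ℂ) h) (ψ : H → ℂ) = m ∧ Odd m) ∧
    (∀ χ χ' : IrrCharacter G, Inv φS (χ : G → ℂ) → Inv φS (χ' : G → ℂ) →
      ∀ ψ : IrrCharacter H, InvOn φS H (ψ : H → ℂ) → ∀ m m' : ℕ,
        classInner (fun h : H => (χ : G → ℂ) h) (ψ : H → ℂ) = m → Odd m →
        classInner (fun h : H => (χ' : G → ℂ) h) (ψ : H → ℂ) = m' → Odd m' → χ = χ') ∧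
    (∀ ψ : IrrCharacter H, InvOn φS H (ψ : H → ℂ) →
      ∃ χ : IrrCharacter G, Inv φS (χ : G → ℂ) ∧
        ∃ m : ℕ, classInner (fun h : H => (χ : G → ℂ) h) (ψ : H → ℂ) = m ∧ Odd m) := by
  classical
  haveI : (L.subgroupOf H).Normal := D.normL.subgroupOf H
  haveI := Fintype.ofFinite (L.subgroupOf H)
  have hHsolv : Group.IsSolvable H := by haveI := hsolv; infer_instance
  -- an invariant constituent of a character of `H`
  have hcon : ∀ ψ : IrrCharacter H, InvOn φS H (ψ : H → ℂ) →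
      ∃ θ : IrrCharacter L, InvOn φS L (θ : L → ℂ) ∧
        classInner (fun l : L => (ψ : H → ℂ) ⟨l, D.leH l.2⟩) (θ : L → ℂ) ≠ 0 := by
    intro ψ hψ
    obtain ⟨θ, hθ, hne⟩ := exists_inv_constituent (restrictHom φS H D.stabH)
      (D.cop.coprime_dvd_right (Subgroup.card_subgroup_dvd_card H)) hHsolv (L.subgroupOf H)
      (fun s x hx => D.stabL s (x : G) hx) ψ.2 (fun s h => hψ s h _ rfl)
    let eL : L.subgroupOf H ≃* L := Subgroup.subgroupOfEquivOfLe D.leH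
    refine ⟨⟨_, isIrrCharacter_comp_surjective θ.2 eL.symm.toMonoidHom eL.symm.surjective⟩,
      fun s x y hxy => hθ s (eL.symm x) (eL.symm y) (Subtype.ext hxy), ?_⟩
    exact (CfsgLib.FullyRamified.classInner_equiv eL.symm
      (fun l : L.subgroupOf H => (ψ : H → ℂ) l) (θ : L.subgroupOf H → ℂ)).trans_ne hne
  -- multiplicity transfers constituents
  have hpass : ∀ (χ : IrrCharacter G) (ψ : IrrCharacter H) (m : ℕ),
      classInner (fun h : H => (χ : G → ℂ) h) (ψ : H → ℂ) = m → Odd m →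
      ∀ θ : L → ℂ, IsIrrCharacter L θ →
      classInner (fun l : L => (ψ : H → ℂ) ⟨l, D.leH l.2⟩) θ ≠ 0 →
      classInner (fun l : L => (χ : G → ℂ) l) θ ≠ 0 := fun χ ψ m hm hmo θ hθ h =>
    CfsgLib.FullyRamified.inner_comp_ne_zero (Subgroup.inclusion D.leH)
      (isCharacter_restrict (isCharacter_of_irr χ.2) H) ψ.2
      (by rw [hm]; exact Nat.cast_ne_zero.2 hmo.pos.ne') hθ h
  refine ⟨fun χ hχ => ?_, fun χ χ' hχ hχ' ψ hψ m m' hm hmo hm' hmo' => ?_, fun ψ hψ => ?_⟩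
  · obtain ⟨θ, hθ, hne⟩ := exists_inv_constituent φS D.cop hsolv L D.stabL χ.2 hχ
    obtain ⟨hA, -, -⟩ := D.correspondence_at hsolv θ.2 hθ
    obtain ⟨ψ, hψ, hm, huniq⟩ := hA χ hχ hne
    refine ⟨ψ, ⟨hψ, hm⟩, fun ψ' hψ' => ?_⟩
    obtain ⟨hψ'i, n, hn, hno⟩ := hψ'
    obtain ⟨θ', hθ', hne'⟩ := hcon ψ' hψ'i
    obtain ⟨c, hc, hcθ⟩ := D.constituent_conj hsolv χ.2 θ.2 θ'.2 hθ hθ' hne
      (hpass χ ψ' n hn hno _ θ'.2 hne')
    refine huniq ψ' hψ'i ?_ n hn hno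
    have hcl : conjNormFun L c (fun l : L => (ψ' : H → ℂ) ⟨l, D.leH l.2⟩) =
        fun l : L => (ψ' : H → ℂ) ⟨l, D.leH l.2⟩ := funext fun l =>
      isClassFunction_irr ψ'.2 ⟨l, D.leH l.2⟩ ⟨c, D.fixed_mem hc⟩
    rw [← classInner_conjNormFun L c, hcl, hcθ]
    exact hne'
  · obtain ⟨θ, hθ, hne⟩ := hcon ψ hψ
    exact (D.correspondence_at hsolv θ.2 hθ).2.1 χ χ' hχ hχ' (hpass χ ψ m hm hmo _ θ.2 hne)
      (hpass χ' ψ m' hm' hmo' _ θ.2 hne) ψ hψ hne m m' hm hmo hm' hmo'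
  · obtain ⟨θ, hθ, hne⟩ := hcon ψ hψ
    exact (D.correspondence_at hsolv θ.2 hθ).2.2 ψ hψ hne

end Setup

end CfsgLib.ParityCorr
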