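import Cfsg.Agent.Lib.ParityCorr.Average

/-!
# The signed restriction attached to a parity operator

The trace against the parity operator is an irreducible character of `H` up to sign, and it is
congruent to the restriction modulo `2`.
-/

namespace CfsgLib.ParityCorr

open Cfsg CfsgLib.CharTheory
open scoped ComplexConjugate

set_option linter.unusedVariables false
set_option linter.unusedSectionVars false
set_option linter.style.haveILetI false

universe u v w

variable {G : Type u} [Group G] [Fintype G]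
variable {V : Type v} [AddCommGroup V] [Module ℂ V] [FiniteDimensional ℂ V]
variable {V' : Type w} [AddCommGroup V'] [Module ℂ V'] [FiniteDimensional ℂ V']
variable {K H L : Subgroup G}

/-- The hypotheses on the subgroups. -/
structure Split (G : Type u) [Group G] (K H L : Subgroup G) : Prop where
  odd : Odd (Nat.card G)
  leK : L ≤ K
  leH : L ≤ H
  inter : ∀ x ∈ K, x ∈ H → x ∈ L
  prod : ∀ g : G, ∃ k ∈ K, ∃ h ∈ H, g = k * h
  normalK : K.Normal
  comm : ∀ x ∈ K, ∀ y ∈ K, x * y * x⁻¹ * y⁻¹ ∈ L

/-- The conditions on a parity operator for one representation. -/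
structure IsParity (ρ : Representation ℂ G V) (H : Subgroup G) (T : Module.End ℂ V) : Prop where
  sq : T * T = 1
  commH : ∀ h ∈ H, ρ h * T = T * ρ h

/-- Two parity operators invert `K` through the same combinations of `L`. -/
def Compatible (ρ : Representation ℂ G V) (ρ' : Representation ℂ G V') (K L : Subgroup G)
    [Fintype L] (T : Module.End ℂ V) (T' : Module.End ℂ V') : Prop :=
  ∀ w ∈ K, ∃ c : L → ℂ, T * ρ w * T * ρ w = ∑ l, c l • ρ (l : G) ∧
    T' * ρ' w * T' * ρ' w = ∑ l, c l • ρ' (l : G)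

/-- The trace against the parity operator. -/
noncomputable def signedFn (ρ : Representation ℂ G V) (H : Subgroup G) (T : Module.End ℂ V) :
    H → ℂ := fun h => LinearMap.trace ℂ V (ρ (h : G) * T)

theorem isCharacter_trace_of_idem {A : Type u} [Group A] (ρ : Representation ℂ A V)
    (E : Module.End ℂ V) (hE : E * E = E) (hc : ∀ h, ρ h * E = E * ρ h) :
    IsCharacter A (fun h => LinearMap.trace ℂ V (ρ h * E)) := by
  let σ : Subrepresentation ρ :=
    ⟨LinearMap.range E, fun h v hv => by
      obtain ⟨w, rfl⟩ := hv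
      exact ⟨ρ h w, (LinearMap.congr_fun (hc h) w).symm⟩⟩
  have key : ∀ h, σ.toRepresentation.character h = LinearMap.trace ℂ V (ρ h * E) := by
    intro h
    set ι := (LinearMap.range E).subtype
    set π := E.rangeRestrict
    have h1 : ρ h * E = (ρ h ∘ₗ ι) ∘ₗ π := rfl
    have h2 : σ.toRepresentation h = π ∘ₗ (ρ h ∘ₗ ι) := by
      refine LinearMap.ext fun v => Subtype.ext ?_
      show ρ h (v : V) = E (ρ h (v : V))
      obtain ⟨w, hw⟩ := v.2
      rw [← hw]
      calc ρ h (E w) = E (ρ h w) := LinearMap.congr_fun (hc h) w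
        _ = E (E (ρ h w)) := (LinearMap.congr_fun hE (ρ h w)).symm
        _ = E (ρ h (E w)) := by rw [show ρ h (E w) = E (ρ h w) from LinearMap.congr_fun (hc h) w]
    rw [Representation.character, h2, h1, LinearMap.trace_comp_comm']
  rw [show (fun h => LinearMap.trace ℂ V (ρ h * E)) = σ.toRepresentation.character from
    funext fun h => (key h).symm]
  exact isCharacter_character _

variable {ρ : Representation ℂ G V} {T : Module.End ℂ V}

theorem signedFn_split (hP : IsParity ρ H T) :
    ∃ a b : H → ℂ, IsCharacter H a ∧ IsCharacter H b ∧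
      (fun h : H => ρ.character (h : G)) = a + b ∧ signedFn ρ H T = a - b := by
  set P : Module.End ℂ V := (1 / 2 : ℂ) • (1 + T) with hPdef
  set Q : Module.End ℂ V := (1 / 2 : ℂ) • (1 - T) with hQdef
  have hP2 : P * P = P := by
    rw [hPdef, smul_mul_smul_comm, mul_add, add_mul, add_mul, one_mul, one_mul, mul_one, hP.sq]
    rw [show (1 : Module.End ℂ V) + T + (T + 1) = (2 : ℂ) • (1 + T) by rw [two_smul]; abel,
      smul_smul]
    norm_num
  have hQ2 : Q * Q = Q := by
    rw [hQdef, smul_mul_smul_comm, mul_sub, sub_mul, sub_mul, one_mul, one_mul, mul_one, hP.sq]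
    rw [show (1 : Module.End ℂ V) - T - (T - 1) = (2 : ℂ) • (1 - T) by rw [two_smul]; abel,
      smul_smul]
    norm_num
  have hPc : ∀ h : H, ρ.comp H.subtype h * P = P * ρ.comp H.subtype h := fun h => by
    show ρ (h : G) * P = P * ρ (h : G)
    rw [hPdef, mul_smul_comm, smul_mul_assoc, mul_add, add_mul, one_mul, mul_one, hP.commH _ h.2]
  have hQc : ∀ h : H, ρ.comp H.subtype h * Q = Q * ρ.comp H.subtype h := fun h => by
    show ρ (h : G) * Q = Q * ρ (h : G)
    rw [hQdef, mul_smul_comm, smul_mul_assoc, mul_sub, sub_mul, one_mul, mul_one, hP.commH _ h.2]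
  refine ⟨_, _, isCharacter_trace_of_idem (ρ.comp H.subtype) P hP2 hPc,
    isCharacter_trace_of_idem (ρ.comp H.subtype) Q hQ2 hQc, ?_, ?_⟩
  · funext h
    simp only [Pi.add_apply, ← map_add, ← mul_add, hPdef, hQdef, ← smul_add]
    rw [show (1 : Module.End ℂ V) + T + (1 - T) = (2 : ℂ) • 1 by rw [two_smul]; abel, smul_smul]
    norm_num
    rfl
  · funext h
    simp only [Pi.sub_apply, ← map_sub, ← mul_sub, hPdef, hQdef, ← smul_sub]
    rw [show (1 : Module.End ℂ V) + T - (1 - T) = (2 : ℂ) • T by rw [two_smul]; abel, smul_smul]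
    norm_num
    rfl

theorem card_split [Fintype K] [Fintype H] (hS : Split G K H L) :
    (Nat.card K : ℂ) * Nat.card H = (Nat.card L : ℂ) * Nat.card G := by
  have h := sum_product_eq hS.leK hS.leH hS.inter hS.prod fun _ => (1 : ℂ)
  simp only [Finset.sum_const, Finset.card_univ, nsmul_eq_mul, mul_one,
    ← Nat.card_eq_fintype_card] at h
  rw [← h, mul_comm]

variable {ρ' : Representation ℂ G V'} {T' : Module.End ℂ V'}

theorem card_mul_classInner [L.Normal] [Fintype K] [Fintype H] [Fintype L] (hS : Split G K H L)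
    (hP : IsParity ρ H T) (hP' : IsParity ρ' H T') (hC : Compatible ρ ρ' K L T T') :
    (Nat.card K : ℂ) * ((Nat.card H : ℂ) * classInner (signedFn ρ H T) (signedFn ρ' H T')) =
      (Nat.card L : ℂ) * ∑ g : G, LinearMap.trace ℂ V (T * ρ g) *
        LinearMap.trace ℂ V' (ρ' g⁻¹ * T') := by
  have hconj : ∀ h : H, conj (signedFn ρ' H T' h) =
      LinearMap.trace ℂ V' (T' * ρ' (h : G)⁻¹) := by
    intro h
    obtain ⟨a, b, ha, hb, -, hab⟩ := signedFn_split hP'
    rw [hab, Pi.sub_apply, map_sub, ← char_apply_inv ha h, ← char_apply_inv hb h, ← Pi.sub_apply,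
      ← hab, ← hP'.commH _ (H.inv_mem h.2)]
    rfl
  rw [← sum_parity ρ ρ' hS.odd hS.leK hS.leH hS.inter hS.prod hS.normalK hS.comm hP.sq hP'.sq
    hP.commH hP'.commH hC]
  congr 1
  rw [classInner, mul_inv_cancel_left₀ (Nat.cast_ne_zero.2 Nat.card_pos.ne')]
  exact Finset.sum_congr rfl fun h _ => by rw [hconj]; rfl

theorem classInner_signed_self [L.Normal] [Fintype K] [Fintype H] [Fintype L]
    (hS : Split G K H L) [ρ.IsIrreducible] (hP : IsParity ρ H T)
    (hC : Compatible ρ ρ K L T T) :
    classInner (signedFn ρ H T) (signedFn ρ H T) = 1 := by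
  have h := card_mul_classInner hS hP hP hC
  rw [sum_trace_mul_trace ρ T T, hP.sq, LinearMap.trace_one,
    div_mul_cancel₀ _ (finrank_ne_zero_of_irr ρ), ← mul_assoc, card_split hS] at h
  exact mul_left_cancel₀ (mul_ne_zero (Nat.cast_ne_zero.2 Nat.card_pos.ne')
    (Nat.cast_ne_zero.2 Nat.card_pos.ne')) (h.trans (mul_one _).symm)

theorem classInner_signed_ne [L.Normal] [Fintype K] [Fintype H] [Fintype L]
    (hS : Split G K H L) [ρ.IsIrreducible] [ρ'.IsIrreducible] (hP : IsParity ρ H T)
    (hP' : IsParity ρ' H T') (hC : Compatible ρ ρ' K L T T')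
    (hne : ρ.character ≠ ρ'.character) :
    classInner (signedFn ρ H T) (signedFn ρ' H T') = 0 := by
  have horth : ∑ g : G, ρ'.character g⁻¹ * ρ.character g = 0 := by
    have h := classInner_irr_ne (isIrrCharacter_character ρ) (isIrrCharacter_character ρ') hne
    rw [classInner, mul_eq_zero, or_iff_right (inv_ne_zero (Nat.cast_ne_zero.2 Nat.card_pos.ne'))]
      at h
    rw [← h]
    exact Finset.sum_congr rfl fun g _ => by
      rw [char_apply_inv (isCharacter_character ρ'), mul_comm]
  have h := card_mul_classInner hS hP hP' hC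
  rw [sum_trace_mul_trace_ne ρ' ρ horth T T', mul_zero] at h
  rcases mul_eq_zero.1 h with h1 | h1
  · exact absurd h1 (Nat.cast_ne_zero.2 Nat.card_pos.ne')
  · rcases mul_eq_zero.1 h1 with h2 | h2
    · exact absurd h2 (Nat.cast_ne_zero.2 Nat.card_pos.ne')
    · exact h2

/-- The restriction has exactly one constituent of odd multiplicity. -/
theorem exists_signed [L.Normal] [Fintype K] [Fintype H] [Fintype L]
    (hS : Split G K H L) [ρ.IsIrreducible] (hP : IsParity ρ H T)
    (hC : Compatible ρ ρ K L T T) :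
    ∃ (ψ : IrrCharacter H) (ε : ℤ), (ε = 1 ∨ ε = -1) ∧
      signedFn ρ H T = (ε : ℂ) • (ψ : H → ℂ) ∧
      ∀ (η : IrrCharacter H) (m : ℕ),
        classInner (fun h : H => ρ.character (h : G)) (η : H → ℂ) = m → (Odd m ↔ η = ψ) := by
  classical
  obtain ⟨a, b, ha, hb, hsum, hdiff⟩ := signedFn_split hP
  obtain ⟨ψ, ε, hε, he⟩ : ∃ (ψ : IrrCharacter H) (ε : ℤ), (ε = 1 ∨ ε = -1) ∧
      signedFn ρ H T = (ε : ℂ) • (ψ : H → ℂ) := by
    have hgen : IsGeneralizedCharacter H (signedFn ρ H T) := ⟨a, b, ha, hb, hdiff⟩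
    rcases irr_or_neg_of_norm_one hgen (classInner_signed_self hS hP hC) with h | h
    · exact ⟨⟨_, h⟩, 1, Or.inl rfl, by simp⟩
    · exact ⟨⟨_, h⟩, -1, Or.inr rfl, by simp⟩
  refine ⟨ψ, ε, hε, he, fun η m hm => ?_⟩
  obtain ⟨p, hp⟩ := classInner_char_nat ha (isCharacter_of_irr η.2)
  obtain ⟨q, hq⟩ := classInner_char_nat hb (isCharacter_of_irr η.2)
  rw [hsum, classInner_add_left, hp, hq, ← Nat.cast_add, Nat.cast_inj] at hm
  have h1 : classInner (signedFn ρ H T) (η : H → ℂ) = (p : ℂ) - q := by
    rw [hdiff, classInner_sub_left, hp, hq]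
  rw [he, classInner_smul_left, classInner_irr ψ.2 η.2] at h1
  have h2 : (if η = ψ then ε else 0) = (p : ℤ) - q := by
    by_cases hc : η = ψ
    · rw [if_pos hc]
      rw [if_pos (by rw [hc])] at h1
      exact_mod_cast (by simpa using h1 : (ε : ℂ) = (p : ℂ) - q)
    · rw [if_neg hc]
      rw [if_neg (fun e' => hc (Subtype.ext e'.symm))] at h1
      exact_mod_cast (by simpa using h1 : (0 : ℂ) = (p : ℂ) - q)
  subst hm
  rw [Nat.odd_iff]
  by_cases hc : η = ψ
  · rw [if_pos hc] at h2
    simp only [hc, iff_true]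
    rcases hε with rfl | rfl <;> omega
  · rw [if_neg hc] at h2
    simp only [hc, iff_false]
    omega

end CfsgLib.ParityCorr
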